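import Groth.Agent.RootDat.Ext

/-!
# `p`-morphisms of reduced root data (elementary part)
-/

set_option autoImplicit false
set_option linter.unusedSectionVars false

open Set Function
open Module hiding reflection

noncomputable section

namespace Groth.Agent.RootDat

variable {ι M N ι' M' N' : Type*} [AddCommGroup M] [AddCommGroup N] [AddCommGroup M'] [AddCommGroup N']
  {P : RootPairing ι ℤ M N} {P' : RootPairing ι' ℤ M' N'}

lemma eq_of_pos_smul_eq [P.IsReduced] {i j : ι} {a b : ℤ} (ha : 0 < a) (hb : 0 < b)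
    (h : a • P.root i = b • P.root j) : i = j := by
  have hdep : ¬ LinearIndependent ℤ ![P.root i, P.root j] := fun hli => by
    have := (LinearIndependent.pair_iff.mp hli) a (-b) (by rw [neg_smul, h, add_neg_cancel])
    omega
  rcases RootPairing.IsReduced.eq_or_eq_neg i j hdep with h' | h'
  · exact root_inj P h'
  · exfalso
    rw [h', smul_neg, ← neg_smul] at h
    have h0 : (-a - b) • P.root j = 0 := by rw [sub_smul, h, sub_self]
    exact P.ne_zero j (eq_zero_of_smul P (by omega) h0)

lemma isIndiv_of_isReduced [P.IsReduced] (i : ι) : RootD.IsIndiv P i := fun j hj => by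
  have h := eq_of_pos_smul_eq (P := P) (a := 2) (b := 1) (by norm_num) one_pos
    (hj.trans (one_smul ℤ _).symm)
  subst h
  rw [two_smul, add_eq_left] at hj
  exact P.ne_zero j hj

/-- The data of a `p`-morphism used here. -/
structure IsPMor (f : M' →ₗ[ℤ] M) (g : N →ₗ[ℤ] N') (u : ι ≃ ι') (q : ι → ℕ)
    (P : RootPairing ι ℤ M N) (P' : RootPairing ι' ℤ M' N') : Prop where
  transpose : ∀ (m' : M') (n : N), P.toLinearMap (f m') n = P'.toLinearMap m' (g n)
  pos : ∀ i, 0 < q i
  map_root : ∀ i : ι, f (P'.root (u i)) = (q i : ℤ) • P.root i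
  map_coroot : ∀ i : ι, g (P.coroot i) = (q i : ℤ) • P'.coroot (u i)

lemma isPMor_mk {p : ℕ} (hp : 0 < p) {f : M' →ₗ[ℤ] M} {g : N →ₗ[ℤ] N'} {u : ι ≃ ι'} {q : ι → ℕ}
    (hfg : ∀ (m' : M') (n : N), P.toLinearMap (f m') n = P'.toLinearMap m' (g n))
    (hq : ∀ i, ∃ e : ℕ, q i = p ^ e)
    (hroot : ∀ i : ι, f (P'.root (u i)) = (q i : ℤ) • P.root i)
    (hcoroot : ∀ i : ι, g (P.coroot i) = (q i : ℤ) • P'.coroot (u i)) : IsPMor f g u q P P' :=
  ⟨hfg, fun i => by obtain ⟨e, he⟩ := hq i; rw [he]; exact pow_pos hp e, hroot, hcoroot⟩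

variable {f : M' →ₗ[ℤ] M} {g : N →ₗ[ℤ] N'} {u : ι ≃ ι'} {q : ι → ℕ}
variable (h : IsPMor f g u q P P')

include h

lemma IsPMor.pairing_eq (i j : ι) :
    (q j : ℤ) * P.pairing j i = (q i : ℤ) * P'.pairing (u j) (u i) := by
  have h1 := h.transpose (P'.root (u j)) (P.coroot i)
  rw [h.map_root, h.map_coroot] at h1
  simpa using h1

variable [Finite ι] [Finite ι']

lemma IsPMor.perm_eq [P.IsReduced] (i j : ι) :
    q (P.reflectionPerm i j) = q j ∧ u (P.reflectionPerm i j) = P'.reflectionPerm (u i) (u j) := by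
  set m := u.symm (P'.reflectionPerm (u i) (u j))
  have hm : u m = P'.reflectionPerm (u i) (u j) := u.apply_symm_apply _
  have h1 := h.map_root m
  rw [hm, root_reflectionPerm', map_sub, map_smul, h.map_root, h.map_root, smul_smul,
    mul_comm, ← h.pairing_eq i j, mul_smul, ← smul_sub, ← root_reflectionPerm'] at h1
  have hij : P.reflectionPerm i j = m :=
    eq_of_pos_smul_eq (P := P) (by exact_mod_cast h.pos j) (by exact_mod_cast h.pos m) h1
  rw [hij] at h1 ⊢
  refine ⟨?_, hm⟩
  by_contra hne
  have : ((q j : ℤ) - q m) • P.root m = 0 := by rw [sub_smul, h1, sub_self]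
  exact P.ne_zero m (eq_zero_of_smul P (by omega) this)

lemma IsPMor.u_opp [P.IsReduced] (i : ι) : u (opp P i) = opp P' (u i) := (h.perm_eq i i).2

lemma IsPMor.inj_on_span {x : M'} (hx : x ∈ Submodule.span ℤ (range P'.root)) (hf : f x = 0) :
    x = 0 := by
  refine eq_zero_of_coroot' P' hx fun i' => ?_
  obtain ⟨i, rfl⟩ := u.surjective i'
  have h1 := h.transpose x (P.coroot i)
  rw [hf, h.map_coroot] at h1
  simp only [map_zero, LinearMap.zero_apply, map_smul, smul_eq_mul, zero_eq_mul] at h1
  exact h1.resolve_left (by have := h.pos i; omega)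

lemma IsPMor.f_comb (c : ι →₀ ℤ) :
    f (Finsupp.linearCombination ℤ P'.root (c.mapDomain u)) =
      c.sum fun i a => (a * q i) • P.root i := by
  rw [Finsupp.linearCombination_mapDomain, Finsupp.linearCombination_apply, Finsupp.sum, map_sum]
  refine Finset.sum_congr rfl fun i _ => ?_
  rw [map_smul, Function.comp_apply, h.map_root, smul_smul]

/-- Transport of positive multiples lying in monoids, forwards. -/
lemma IsPMor.natSpan_image {S : Set ι} {k : ι} {n : ℕ} (hn : 0 < n)
    (hk : n • P.root k ∈ RootD.natSpan P S) :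
    ∃ m : ℕ, 0 < m ∧ m • P'.root (u k) ∈ RootD.natSpan P' (u '' S) := by
  classical
  let := Fintype.ofFinite ι
  obtain ⟨l, hl, hsum⟩ := (mem_natSpan_iff_list P).mp hk
  refine ⟨n * ∏ i, q i, mul_pos hn (Finset.prod_pos fun i _ => h.pos i), ?_⟩
  let v : M' := (l.map fun a => (q k * ∏ i ∈ Finset.univ.erase a, q i) • P'.root (u a)).sum
  have hv : v ∈ RootD.natSpan P' (u '' S) := by
    refine AddSubmonoid.list_sum_mem _ fun y hy => ?_
    obtain ⟨a, ha, rfl⟩ := List.mem_map.mp hy
    exact AddSubmonoid.nsmul_mem _ (root_mem_natSpan P' (show u a ∈ u '' S from ⟨a, hl a ha, rfl⟩)) _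
  have hfv : f v = (q k * ∏ i, q i) • (l.map P.root).sum := by
    rw [map_list_sum, List.map_map, List.smul_sum, List.map_map]
    refine congrArg List.sum (List.map_congr_left fun a _ => ?_)
    simp only [Function.comp_apply, map_nsmul, h.map_root, natCast_zsmul, smul_smul]
    rw [mul_assoc, Finset.prod_erase_mul Finset.univ q (Finset.mem_univ a)]
  have hfeq : f ((n * ∏ i, q i) • P'.root (u k)) = f v := by
    rw [hfv, hsum, map_nsmul, h.map_root, natCast_zsmul, smul_smul, smul_smul]
    congr 1
    ring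
  have hzero := h.inj_on_span (x := (n * ∏ i, q i) • P'.root (u k) - v)
    (Submodule.sub_mem _ (Submodule.smul_of_tower_mem _ _ (root_mem_span P' _))
      (span_image_le P' _ (natSpan_le_span P' _ hv)))
    (by rw [map_sub, hfeq, sub_self])
  rw [sub_eq_zero] at hzero
  rw [hzero]
  exact hv

/-- Transport of positive multiples lying in monoids, backwards. -/
lemma IsPMor.natSpan_preimage {S : Set ι} {k : ι} {n : ℕ} (hn : 0 < n)
    (hk : n • P'.root (u k) ∈ RootD.natSpan P' (u '' S)) :
    ∃ m : ℕ, 0 < m ∧ m • P.root k ∈ RootD.natSpan P S := by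
  refine ⟨n * q k, mul_pos hn (h.pos k), ?_⟩
  have key : ∀ y ∈ RootD.natSpan P' (u '' S), f y ∈ RootD.natSpan P S := by
    intro y hy
    induction hy using AddSubmonoid.closure_induction with
    | mem z hz =>
      obtain ⟨_, ⟨i, hi, rfl⟩, rfl⟩ := hz
      rw [h.map_root, natCast_zsmul]
      exact AddSubmonoid.nsmul_mem _ (root_mem_natSpan P hi) _
    | zero => rw [map_zero]; exact zero_mem _
    | add z w _ _ hz hw => rw [map_add]; exact AddSubmonoid.add_mem _ hz hw
  have := key _ hk
  rwa [map_nsmul, h.map_root, natCast_zsmul, smul_smul] at this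

lemma IsPMor.isPosSys_iff [P.IsReduced] (S : Set ι) :
    RootD.IsPosSys P S ↔ RootD.IsPosSys P' (u '' S) := by
  constructor
  · intro hS
    refine ⟨?_, fun i' => ?_, fun k' n hn hk => ?_⟩
    · rintro _ ⟨i, hi, rfl⟩ ⟨j, hj, hji⟩
      have he : u j = u (opp P i) := hji.trans (h.u_opp i).symm
      exact hS.disjoint hi (show opp P i ∈ S from u.injective he ▸ hj)
    · obtain ⟨i, rfl⟩ := u.surjective i'
      exact (hS.cover i).imp (fun hi => ⟨i, hi, rfl⟩) (fun hi => ⟨_, hi, h.u_opp i⟩)
    · obtain ⟨k, rfl⟩ := u.surjective k'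
      obtain ⟨m, hm, hmem⟩ := h.natSpan_preimage hn hk
      exact ⟨k, hS.sat m hm hmem, rfl⟩
  · intro hS
    refine ⟨fun i hi hi' => hS.disjoint ⟨i, hi, rfl⟩ ⟨_, hi', h.u_opp i⟩, fun i => ?_,
      fun k n hn hk => ?_⟩
    · rcases hS.cover (u i) with ⟨j, hj, hji⟩ | ⟨j, hj, hji⟩
      · exact .inl (u.injective hji ▸ hj)
      · exact .inr (show opp P i ∈ S from u.injective (hji.trans (h.u_opp i).symm) ▸ hj)
    · obtain ⟨m, hm, hmem⟩ := h.natSpan_image hn hk
      exact u.injective.mem_set_image.mp (hS.sat m hm hmem)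

lemma IsPMor.isSimpleSys_iff [P.IsReduced] [P'.IsReduced] (Δ : Set ι) :
    RootD.IsSimpleSys P Δ ↔ RootD.IsSimpleSys P' (u '' Δ) := by
  classical
  constructor
  · intro hΔ
    refine isSimpleSys_of_cone P' (fun i _ => isIndiv_of_isReduced i) ?_ (fun k' => ?_)
    · refine linearIndepOn_iff.mpr fun c hc h0 => ?_
      rw [Finsupp.mem_supported] at hc
      let d : ι →₀ ℤ := Finsupp.equivMapDomain u.symm c
      have hd : ∀ i, d i = c (u i) := fun i => by simp [d]
      have hcd : c = d.mapDomain u := by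
        rw [← Finsupp.equivMapDomain_eq_mapDomain]
        exact Finsupp.ext fun j => by simp [d]
      rw [hcd] at h0
      have h1 := h.f_comb d
      rw [h0, map_zero] at h1
      let e : ι →₀ ℤ := Finsupp.onFinset d.support (fun i => d i * q i) fun i hi =>
        Finsupp.mem_support_iff.mpr (left_ne_zero_of_mul hi)
      have he : e = 0 := by
        refine comb_inj hΔ.linInd (fun i hi => ?_) (by simp) ?_
        · have hdi : d i ≠ 0 := left_ne_zero_of_mul (Finsupp.mem_support_iff.mp hi)
          rw [hd] at hdi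
          exact u.injective.mem_set_image.mp (hc (Finsupp.mem_support_iff.mpr hdi))
        · rw [map_zero, Finsupp.linearCombination_apply, Finsupp.onFinset_sum _ (by simp)]
          exact h1.symm
      refine Finsupp.ext fun j => ?_
      obtain ⟨i, rfl⟩ := u.surjective j
      have := congrArg (fun z : ι →₀ ℤ => z i) he
      simp only [e, Finsupp.onFinset_apply, Finsupp.zero_apply, mul_eq_zero, hd] at this
      exact this.resolve_right (by have := h.pos i; omega)
    · obtain ⟨k, rfl⟩ := u.surjective k'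
      rcases hΔ.mem_or_neg_mem k with hk | hk
      · obtain ⟨m, hm, hmem⟩ := h.natSpan_image one_pos (by rwa [one_nsmul])
        exact ⟨m, hm, .inl hmem⟩
      · obtain ⟨m, hm, hmem⟩ := h.natSpan_image (k := opp P k) one_pos (by rwa [one_nsmul, root_opp])
        rw [h.u_opp, root_opp] at hmem
        exact ⟨m, hm, .inr hmem⟩
  · intro hΔ
    refine isSimpleSys_of_cone P (fun i _ => isIndiv_of_isReduced i) ?_ (fun k => ?_)
    · refine linearIndepOn_iff.mpr fun c hc h0 => ?_
      rw [Finsupp.mem_supported] at hc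
      let := Fintype.ofFinite ι
      -- scale the relation so that it lifts along `f`
      let d : ι →₀ ℤ := Finsupp.onFinset c.support (fun i => c i * ∏ j ∈ Finset.univ.erase i, (q j : ℤ))
        fun i hi => Finsupp.mem_support_iff.mpr (left_ne_zero_of_mul hi)
      have hsupp : ↑(d.mapDomain u).support ⊆ u '' Δ := fun j hj => by
        obtain ⟨i, hi, rfl⟩ := Finset.mem_image.mp (Finsupp.mapDomain_support hj)
        exact ⟨i, hc (Finsupp.mem_support_iff.mpr (left_ne_zero_of_mul (Finsupp.mem_support_iff.mp hi))), rfl⟩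
      have hz : Finsupp.linearCombination ℤ P'.root (d.mapDomain u) = 0 := by
        refine h.inj_on_span ?_ ?_
        · exact span_image_le P' _ ((Finsupp.mem_span_image_iff_linearCombination ℤ).mpr
            ⟨_, (Finsupp.mem_supported ℤ _).mpr hsupp, rfl⟩)
        · rw [h.f_comb, Finsupp.onFinset_sum _ (by simp)]
          have hcs : (∏ j, (q j : ℤ)) • Finsupp.linearCombination ℤ P.root c = 0 := by rw [h0, smul_zero]
          rw [Finsupp.linearCombination_apply, Finsupp.sum, Finset.smul_sum] at hcs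
          refine (Finset.sum_congr rfl fun i _ => ?_).trans hcs
          rw [smul_smul, mul_assoc, Finset.prod_erase_mul Finset.univ (fun j => (q j : ℤ))
            (Finset.mem_univ i), mul_comm]
      have hd0 := comb_inj hΔ.linInd hsupp (by simp) (hz.trans (map_zero _).symm)
      refine Finsupp.ext fun i => ?_
      have := congrArg (fun z : ι' →₀ ℤ => z (u i)) hd0
      simp only [Finsupp.mapDomain_apply u.injective, d, Finsupp.onFinset_apply, Finsupp.zero_apply,
        mul_eq_zero] at this
      exact this.resolve_right (Finset.prod_ne_zero_iff.mpr fun j _ => by have := h.pos j; omega)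
    · rcases hΔ.mem_or_neg_mem (u k) with hk | hk
      · obtain ⟨m, hm, hmem⟩ := h.natSpan_preimage one_pos (by rwa [one_nsmul])
        exact ⟨m, hm, .inl hmem⟩
      · obtain ⟨m, hm, hmem⟩ := h.natSpan_preimage (k := opp P k) one_pos
          (by rwa [one_nsmul, h.u_opp, root_opp])
        rw [root_opp] at hmem
        exact ⟨m, hm, .inr hmem⟩

end Groth.Agent.RootDat
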