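import Groth.Agent.RootDat.Dominant
import Groth.Agent.RootDat.Morph

/-!
# Bases of root pairings and systems of simple roots
-/

set_option autoImplicit false
set_option linter.unusedSectionVars false

open Set Function
open Module hiding reflection

noncomputable section

namespace Groth.Agent.RootDat

variable {ι M N : Type*} [AddCommGroup M] [AddCommGroup N] {P : RootPairing ι ℤ M N} [Finite ι]
  (b : P.Base)

lemma isSimpleSys_base : RootD.IsSimpleSys P (b.support : Set ι) :=
  ⟨b.linearIndepOn_root, b.root_mem_or_neg_mem⟩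

lemma height_eq (i : ι) : b.height i = ∑ a ∈ b.support, coeff (isSimpleSys_base b) i a := by
  refine RootPairing.Base.height_eq_sum ?_
  conv_lhs => rw [← coeff_spec (isSimpleSys_base b) i, Finsupp.linearCombination_apply]
  exact Finsupp.sum_of_support_subset _ (Finset.coe_subset.mp (coeff_support (isSimpleSys_base b) i))
    _ (fun _ _ => zero_smul _ _)

lemma isPos_iff_posOf (i : ι) : b.IsPos i ↔ i ∈ RootD.posOf P (b.support : Set ι) := by
  have hΔ := isSimpleSys_base b
  rw [b.isPos_iff', height_eq, mem_posOf_iff hΔ]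
  refine ⟨fun h => (coeff_sign hΔ i).resolve_right fun hn => ?_, fun h => Finset.sum_nonneg fun a _ => h a⟩
  have h0 : ∑ a ∈ b.support, coeff hΔ i a = 0 := le_antisymm (Finset.sum_nonpos fun a _ => hn a) h
  refine coeff_ne_zero hΔ i (Finsupp.ext fun a => ?_)
  by_cases ha : a ∈ b.support
  · exact (Finset.sum_eq_zero_iff_of_nonpos fun a _ => hn a).mp h0 a ha
  · exact coeff_eq_zero hΔ (by simpa using ha)

/-- The sum of the positive coroots, as a functional. -/
def sumPos [Fintype ι] (Δ : Set ι) : M →ₗ[ℤ] ℤ :=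
  ∑ j ∈ (toFinite (RootD.posOf P Δ)).toFinset, P.coroot' j

variable {Δ : Set ι} (hΔ : RootD.IsSimpleSys P Δ)

include hΔ in
lemma sumPos_simple [Fintype ι] [P.IsReduced] {a : ι} (ha : a ∈ Δ) :
    sumPos (P := P) Δ (P.root a) = 2 := by
  classical
  rw [sumPos, LinearMap.sum_apply]
  set s := (toFinite (RootD.posOf P Δ)).toFinset with hs
  have hmem : ∀ k, k ∈ s ↔ k ∈ RootD.posOf P Δ := fun k => Set.Finite.mem_toFinset _
  have has : a ∈ s := (hmem a).mpr (subset_posOf ha)
  simp only [P.root_coroot'_eq_pairing]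
  rw [← Finset.add_sum_erase _ _ has, P.pairing_same]
  suffices h : ∑ j ∈ s.erase a, P.pairing a j = 0 by rw [h, add_zero]
  refine Finset.sum_involution (fun k _ => P.reflectionPerm a k) (fun k _ => ?_) (fun k _ hne heq => ?_)
    (fun k hk => ?_) (fun k _ => P.reflectionPerm_self a k)
  · rw [P.pairing_reflectionPerm, show P.reflectionPerm a a = opp P a from rfl, pairing_opp_left]
    ring
  · have h1 := root_reflectionPerm' P a k
    rw [heq, eq_comm, sub_eq_self] at h1
    exact P.ne_zero a (eq_zero_of_smul P (fun h0 => hne (pairing_zero_symm P h0)) h1)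
  · rw [Finset.mem_erase, hmem] at hk ⊢
    have hk' : P.reflectionPerm a k ∈ RootD.posOf P Δ := by
      by_contra h
      exact hk.1 (eq_of_refl_neg hΔ ha hk.2 (isIndiv_of_isReduced k) h)
    refine ⟨fun h => not_posOf_opp hΔ (subset_posOf ha) ?_, hk'⟩
    have : k = opp P a := by rw [← P.reflectionPerm_self a k, h]
    exact this ▸ hk.2

include hΔ in
lemma sumPos_root [Fintype ι] [P.IsReduced] (i : ι) :
    sumPos (P := P) Δ (P.root i) = (coeff hΔ i).sum fun _ c => 2 * c := by
  conv_lhs => rw [← coeff_spec hΔ i, Finsupp.linearCombination_apply]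
  rw [map_finsuppSum]
  refine Finsupp.sum_congr fun a ha => ?_
  rw [map_smul, sumPos_simple hΔ (coeff_support hΔ i ha), smul_eq_mul, mul_comm]

lemma sumPos_root_base [Fintype ι] [P.IsReduced] (i : ι) :
    sumPos (P := P) (b.support : Set ι) (P.root i) = 2 * b.height i := by
  rw [sumPos_root (isSimpleSys_base b), height_eq, Finset.mul_sum]
  exact Finsupp.sum_of_support_subset _ (Finset.coe_subset.mp (coeff_support (isSimpleSys_base b) i))
    _ (fun _ _ => mul_zero _)

end Groth.Agent.RootDat
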