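import Groth.Prelude.Def_W4sga3xxiRoot
import Mathlib

/-!
# Elementary facts about root data over `ℤ` (not assumed reduced, irreducible or semisimple)

The form `B` is the canonical form `Σ_k ⟨x, α_k^∨⟩⟨y, α_k^∨⟩`; it is positive definite on the span
of the roots, and `2 B(x, α) = ⟨x, α^∨⟩ B(α, α)`.
-/

set_option autoImplicit false
set_option linter.unusedSectionVars false

open Set Function
open Module hiding reflection

noncomputable section

namespace Groth.Agent.RootDat

variable {ι M N : Type*} [AddCommGroup M] [AddCommGroup N] (P : RootPairing ι ℤ M N)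

include P in
lemma torsionFree_left : IsAddTorsionFree M := by
  have : Module.IsReflexive ℤ M := .of_isPerfPair P.toLinearMap
  exact .of_isTorsionFree ℤ M

include P in
lemma torsionFree_right : IsAddTorsionFree N := by
  have : Module.IsReflexive ℤ N := .of_isPerfPair P.flip.toLinearMap
  exact .of_isTorsionFree ℤ N

include P in
lemma smul_right_cancel {a : ℤ} (ha : a ≠ 0) {x y : M} (h : a • x = a • y) : x = y := by
  have := torsionFree_left P
  exact zsmul_right_injective ha h

include P in
lemma eq_zero_of_smul {a : ℤ} (ha : a ≠ 0) {x : M} (h : a • x = 0) : x = 0 :=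
  smul_right_cancel P ha (h.trans (smul_zero a).symm)

lemma pairingIn_eq (i j : ι) : P.pairingIn ℤ i j = P.pairing i j := by
  simpa using P.algebraMap_pairingIn ℤ i j

/-- The index of the opposite root. -/
abbrev opp (i : ι) : ι := P.reflectionPerm i i

lemma root_opp (i : ι) : P.root (opp P i) = -P.root i := by
  have h := P.root_reflectionPerm i i
  rw [P.reflection_apply_self] at h
  exact h

lemma coroot_opp (i : ι) : P.coroot (opp P i) = -P.coroot i := by
  have h := P.coroot_reflectionPerm i i
  rw [P.coreflection_apply_self] at h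
  exact h

lemma root_inj {i j : ι} (h : P.root i = P.root j) : i = j := P.root.injective h

lemma opp_opp (i : ι) : opp P (opp P i) = i :=
  root_inj P (by rw [root_opp, root_opp, neg_neg])

lemma opp_ne (i : ι) : opp P i ≠ i := by
  intro h
  have h' := root_opp P i
  rw [h, eq_neg_iff_add_eq_zero, ← two_smul ℤ] at h'
  exact P.ne_zero i (eq_zero_of_smul P two_ne_zero h')

lemma eq_opp_iff {i j : ι} : j = opp P i ↔ P.root j = -P.root i :=
  ⟨fun h => h ▸ root_opp P i, fun h => root_inj P (h.trans (root_opp P i).symm)⟩

lemma pairing_add {i j k : ι} (h : P.root k = P.root i + P.root j) (l : ι) :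
    P.pairing k l = P.pairing i l + P.pairing j l :=
  P.pairing_eq_add_of_root_eq_add h

lemma pairing_opp_left (i j : ι) : P.pairing (opp P i) j = -P.pairing i j :=
  P.pairing_reflectionPerm_self_left i j

lemma pairing_opp_right (i j : ι) : P.pairing i (opp P j) = -P.pairing i j :=
  P.pairing_reflectionPerm_self_right i j

lemma root_reflectionPerm' (i j : ι) :
    P.root (P.reflectionPerm i j) = P.root j - P.pairing j i • P.root i :=
  (P.reflectionPerm_root i j).symm

variable [Finite ι]

lemma sub_mem {i j : ι} (h : 0 < P.pairing i j) (hne : i ≠ j) :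
    ∃ k, P.root k = P.root i - P.root j := by
  obtain ⟨k, hk⟩ := P.root_sub_root_mem_of_pairingIn_pos (by rwa [pairingIn_eq]) hne
  exact ⟨k, hk⟩

lemma add_mem {i j : ι} (h : P.pairing i j < 0) (hne : P.root i ≠ -P.root j) :
    ∃ k, P.root k = P.root i + P.root j := by
  obtain ⟨k, hk⟩ := P.root_add_root_mem_of_pairingIn_neg (by rwa [pairingIn_eq]) hne
  exact ⟨k, hk⟩

/-- The canonical form of the root datum. -/
def B : LinearMap.BilinForm ℤ M :=
  letI := Fintype.ofFinite ι
  P.RootForm

lemma B_eq [Fintype ι] : B P = P.RootForm := by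
  unfold B
  congr!

lemma B_symm (x y : M) : B P x y = B P y x := by
  let := Fintype.ofFinite ι
  rw [B_eq]
  exact (LinearMap.isSymm_def.mp P.rootForm_symmetric x y)

lemma B_nonneg (x : M) : 0 ≤ B P x x := by
  let := Fintype.ofFinite ι
  rw [B_eq]
  exact P.zero_le_rootForm x

lemma B_self_eq_zero {x : M} (hx : x ∈ Submodule.span ℤ (range P.root)) (h : B P x x = 0) :
    x = 0 := by
  let := Fintype.ofFinite ι
  rw [B_eq] at h
  exact P.eq_zero_of_mem_rootSpan_of_rootForm_self_eq_zero hx h

lemma B_self_pos {x : M} (hx : x ∈ Submodule.span ℤ (range P.root)) (h : x ≠ 0) :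
    0 < B P x x :=
  (B_nonneg P x).lt_of_ne fun h' => h (B_self_eq_zero P hx h'.symm)

omit [Finite ι] in
lemma root_mem_span (i : ι) : P.root i ∈ Submodule.span ℤ (range P.root) :=
  Submodule.subset_span (mem_range_self i)

omit [Finite ι] in
lemma span_image_le (s : Set ι) :
    Submodule.span ℤ (P.root '' s) ≤ Submodule.span ℤ (range P.root) :=
  Submodule.span_mono (image_subset_range _ _)

lemma B_root_pos (i : ι) : 0 < B P (P.root i) (P.root i) :=
  B_self_pos P (root_mem_span P i) (P.ne_zero i)

lemma B_reflection (i : ι) (x y : M) :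
    B P (P.reflection i x) (P.reflection i y) = B P x y := by
  let := Fintype.ofFinite ι
  rw [B_eq]
  exact P.rootForm_reflection_reflection_apply i x y

/-- `2 B(x, α) = ⟨x, α^∨⟩ B(α, α)`. -/
lemma two_B (x : M) (i : ι) :
    2 * B P x (P.root i) = P.coroot' i x * B P (P.root i) (P.root i) := by
  have h := B_reflection P i x (P.root i)
  rw [P.reflection_apply, P.reflection_apply_self] at h
  simp only [map_sub, map_smul, map_neg, LinearMap.sub_apply, LinearMap.smul_apply,
    smul_eq_mul] at h
  linarith

lemma two_B_root (i j : ι) :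
    2 * B P (P.root i) (P.root j) = P.pairing i j * B P (P.root j) (P.root j) := by
  simpa using two_B P (P.root i) j

lemma pairing_mul_eq (i j : ι) :
    P.pairing i j * B P (P.root j) (P.root j) = P.pairing j i * B P (P.root i) (P.root i) := by
  rw [← two_B_root, ← two_B_root, B_symm]

lemma B_root_pos_iff (i j : ι) : 0 < B P (P.root i) (P.root j) ↔ 0 < P.pairing i j := by
  constructor <;> intro h
  · exact pos_of_mul_pos_left (by rw [← two_B_root]; linarith) (B_root_pos P j).le
  · nlinarith [two_B_root P i j, mul_pos h (B_root_pos P j)]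

lemma B_root_nonpos_iff (i j : ι) : B P (P.root i) (P.root j) ≤ 0 ↔ P.pairing i j ≤ 0 := by
  rw [← not_lt, ← not_lt, B_root_pos_iff]

lemma B_root_eq_zero_iff (i j : ι) : B P (P.root i) (P.root j) = 0 ↔ P.pairing i j = 0 := by
  constructor <;> intro h
  · have := two_B_root P i j
    rw [h, mul_zero, zero_eq_mul] at this
    exact this.resolve_right (B_root_pos P j).ne'
  · have := two_B_root P i j
    rw [h, zero_mul] at this
    linarith

lemma pairing_pos_symm {i j : ι} (h : 0 < P.pairing i j) : 0 < P.pairing j i := by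
  rw [← B_root_pos_iff, B_symm, B_root_pos_iff]
  exact h

lemma pairing_zero_symm {i j : ι} (h : P.pairing i j = 0) : P.pairing j i = 0 := by
  rw [← B_root_eq_zero_iff, B_symm, B_root_eq_zero_iff]
  exact h

lemma pairing_zero_comm (i j : ι) : P.pairing i j = 0 ↔ P.pairing j i = 0 :=
  ⟨pairing_zero_symm P, pairing_zero_symm P⟩

lemma isOrtho_iff (i j : ι) : P.IsOrthogonal i j ↔ P.pairing i j = 0 :=
  ⟨fun h => h.1, fun h => ⟨h, pairing_zero_symm P h⟩⟩

/-- An element of the span of the roots killed by all coroots vanishes. -/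
lemma eq_zero_of_coroot' {x : M} (hx : x ∈ Submodule.span ℤ (range P.root))
    (h : ∀ i, P.coroot' i x = 0) : x = 0 := by
  let := Fintype.ofFinite ι
  refine B_self_eq_zero P hx ?_
  rw [B_eq, P.rootForm_apply_apply]
  exact Finset.sum_eq_zero fun i _ => by rw [h i, zero_mul]

/-- If an element of a span of some roots is killed by their coroots, it vanishes. -/
lemma eq_zero_of_mem_span_image {s : Set ι} {x : M} (hx : x ∈ Submodule.span ℤ (P.root '' s))
    (h : ∀ i ∈ s, P.coroot' i x = 0) : x = 0 := by
  refine B_self_eq_zero P (span_image_le P s hx) ?_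
  have hle : Submodule.span ℤ (P.root '' s) ≤ LinearMap.ker (B P x) := by
    rw [Submodule.span_le]
    rintro _ ⟨i, hi, rfl⟩
    have := two_B P x i
    rw [h i hi, zero_mul] at this
    simpa using this
  exact hle hx

/-- If a nonzero vector is a sum of roots, one of them pairs positively with it. -/
lemma exists_pos_B_of_sum {l : List ι} {x : M} (hx : x ∈ Submodule.span ℤ (range P.root))
    (h0 : x ≠ 0) (hl : (l.map P.root).sum = x) : ∃ a ∈ l, 0 < B P (P.root a) x := by
  by_contra! h
  have key : ∀ l' : List ι, (∀ a ∈ l', B P (P.root a) x ≤ 0) → B P (l'.map P.root).sum x ≤ 0 := by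
    intro l'
    induction l' with
    | nil => simp
    | cons a l' ih =>
      intro h'
      rw [List.map_cons, List.sum_cons, map_add, LinearMap.add_apply]
      exact add_nonpos (h' a (by simp)) (ih fun b hb => h' b (by simp [hb]))
  have := key l h
  rw [hl] at this
  exact absurd (B_self_pos P hx h0) (not_lt.mpr this)

/-- If a root is a sum of roots, one of them pairs positively with it. -/
lemma exists_pairing_pos_of_sum {l : List ι} {k : ι} (hl : (l.map P.root).sum = P.root k) :
    ∃ a ∈ l, 0 < P.pairing a k := by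
  obtain ⟨a, ha, h⟩ := exists_pos_B_of_sum P (root_mem_span P k) (P.ne_zero k) hl
  exact ⟨a, ha, (B_root_pos_iff P a k).mp h⟩

omit [Finite ι] in
/-- Proportional roots: for `b α_j = a α_i` with `α_i` indivisible, `b ∣ a`. -/
lemma dvd_of_smul_eq_smul {i j : ι} (hind : RootD.IsIndiv P i) {a b : ℤ} (hb : b ≠ 0)
    (h : b • P.root j = a • P.root i) : b ∣ a := by
  have h1 : b * P.pairing j i = a * 2 := by simpa using congrArg (P.coroot' i) h
  have h2 : b * 2 = a * P.pairing i j := by simpa using congrArg (P.coroot' j) h
  have ha : a ≠ 0 := by rintro rfl; omega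
  have hpq : P.pairing j i * P.pairing i j = 4 := by
    have : (a * b) * (P.pairing j i * P.pairing i j) = (a * b) * 4 := by
      calc (a * b) * (P.pairing j i * P.pairing i j)
          = (b * P.pairing j i) * (a * P.pairing i j) := by ring
        _ = (a * b) * 4 := by rw [h1, ← h2]; ring
    exact mul_left_cancel₀ (mul_ne_zero ha hb) this
  have hd : P.pairing j i ∣ 4 := ⟨_, hpq.symm⟩
  obtain ⟨t, ht⟩ | hodd := Int.even_or_odd (P.pairing j i)
  · exact ⟨t, by rw [ht] at h1; linarith⟩
  · exfalso
    have hb4 : P.pairing j i = 1 ∨ P.pairing j i = -1 := by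
      have hle : P.pairing j i ≤ 4 := Int.le_of_dvd (by norm_num) hd
      have hge : -4 ≤ P.pairing j i := by
        have := Int.le_of_dvd (by norm_num) (neg_dvd.mpr hd)
        omega
      obtain ⟨t, ht⟩ := hodd
      obtain ⟨w, hw⟩ := hd
      have h3 : P.pairing j i ≠ 3 := fun h3 => by rw [h3] at hw; omega
      have h3' : P.pairing j i ≠ -3 := fun h3 => by rw [h3] at hw; omega
      omega
    rcases hb4 with h4 | h4 <;> rw [h4] at h1
    · refine hind j (smul_right_cancel P ha ?_)
      rw [smul_smul, show a * 2 = b by linarith, h]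
    · refine hind (opp P j) (smul_right_cancel P ha ?_)
      rw [smul_smul, show a * 2 = -b by linarith, root_opp, neg_smul, smul_neg, neg_neg, h]

end Groth.Agent.RootDat
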