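import Groth.Agent.RootDat.Weyl

/-!
# Irreducible components: closed symmetric partitions and non-orthogonality chains
-/

set_option autoImplicit false
set_option linter.unusedSectionVars false

open Set Function
open Module hiding reflection

noncomputable section

namespace Groth.Agent.RootDat

variable {ι M N : Type*} [AddCommGroup M] [AddCommGroup N] (P : RootPairing ι ℤ M N) [Finite ι]

/-- The relation of non-orthogonality. -/
abbrev Linked (a b : ι) : Prop := ¬ P.IsOrthogonal a b

/-- The component of a root. -/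
def component (i : ι) : Set ι := {j | Relation.ReflTransGen (Linked P) i j}

lemma linked_symm {a b : ι} (h : Linked P a b) : Linked P b a := fun h' => h h'.symm

lemma linked_self (a : ι) : Linked P a a := fun h => by have := h.1; simp at this

lemma linked_opp (a : ι) : Linked P a (opp P a) := fun h => by
  have := h.1
  rw [pairing_opp_right] at this
  simp at this

lemma linked_of_add {i j k : ι} (h : P.root k = P.root i + P.root j) :
    Linked P k i ∨ Linked P k j := by
  simp only [Linked, isOrtho_iff]
  by_contra! h'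
  have h1 := pairing_add P h k
  rw [P.pairing_same, pairing_zero_symm P h'.1, pairing_zero_symm P h'.2] at h1
  omega

/-- A set of roots, closed and symmetric as well as its complement. -/
structure IsPart (R' : Set ι) : Prop where
  closed : RootD.IsClosedSub P R'
  symm : RootD.IsSymmSub P R'
  closed' : RootD.IsClosedSub P R'ᶜ
  symm' : RootD.IsSymmSub P R'ᶜ

variable {P}

lemma IsPart.compl {R' : Set ι} (h : IsPart P R') : IsPart P R'ᶜ :=
  ⟨h.closed', h.symm', (compl_compl R').symm ▸ h.closed, (compl_compl R').symm ▸ h.symm⟩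

lemma IsPart.mem_of_add {R' : Set ι} (h : IsPart P R') {i j k : ι}
    (hk : P.root k = P.root i + P.root j) (hi : i ∈ R') : j ∈ R' ∧ k ∈ R' := by
  by_cases hkm : k ∈ R'
  · exact ⟨h.closed hkm (h.symm hi) (by rw [root_opp, hk]; abel), hkm⟩
  · by_cases hj : j ∈ R'
    · exact absurd (h.closed hi hj hk) hkm
    · exact absurd hi (h.closed' hkm (h.symm' hj) (by rw [root_opp, hk]; abel))

lemma IsPart.mem_of_linked {R' : Set ι} (h : IsPart P R') {i j : ι} (hi : i ∈ R')
    (hij : Linked P i j) : j ∈ R' := by
  by_cases hj : j = i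
  · exact hj ▸ hi
  by_cases hj' : j = opp P i
  · exact hj' ▸ h.symm hi
  rw [Linked, isOrtho_iff] at hij
  rcases lt_or_gt_of_ne hij with hlt | hgt
  · obtain ⟨k, hk⟩ := add_mem P hlt fun he =>
      hj' ((eq_opp_iff P).mpr (by rw [he, neg_neg]))
    exact (h.mem_of_add hk hi).1
  · obtain ⟨k, hk⟩ := sub_mem P hgt (Ne.symm hj)
    by_contra hjm
    exact (h.compl.mem_of_add (show P.root i = P.root j + P.root k by rw [hk]; abel) hjm).2 hi

lemma IsPart.component_subset {R' : Set ι} (h : IsPart P R') {i : ι} (hi : i ∈ R') :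
    component P i ⊆ R' := fun j (hj : Relation.ReflTransGen (Linked P) i j) => by
  induction hj with
  | refl => exact hi
  | tail _ hbc ih => exact h.mem_of_linked ih hbc

lemma isPart_of_linked {R' : Set ι} (h : ∀ i ∈ R', ∀ j, Linked P i j → j ∈ R') : IsPart P R' := by
  have hc : ∀ i j, i ∉ R' → j ∈ R' → ¬ Linked P i j := fun i j hi hj hl =>
    hi (h j hj i (linked_symm P hl))
  refine ⟨fun i j k hi hj hk => ?_, fun i hi => h i hi _ (linked_opp P i), fun i j k hi hj hk => ?_,
    fun i hi hi' => hi (?_ : i ∈ R')⟩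
  · rcases linked_of_add P hk with hl | hl
    · exact h i hi k (linked_symm P hl)
    · exact h j hj k (linked_symm P hl)
  · intro hkm
    rcases linked_of_add P hk with hl | hl
    · exact hi (h k hkm i hl)
    · exact hj (h k hkm j hl)
  · have := h _ hi' _ (linked_opp P _)
    rwa [opp_opp] at this

variable (P) in
lemma isPart_component (i : ι) : IsPart P (component P i) :=
  isPart_of_linked fun _ ha _ hab => Relation.ReflTransGen.tail ha hab

variable (P) in
/-- Irreducibility in the sense of closed symmetric partitions. -/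
def IsIrred : Prop :=
  ∀ R' : Set ι, RootD.IsClosedSub P R' → RootD.IsSymmSub P R' → RootD.IsClosedSub P R'ᶜ →
      RootD.IsSymmSub P R'ᶜ → R' = ∅ ∨ R' = Set.univ

lemma IsIrred.reach (h : IsIrred P) (i j : ι) : Relation.ReflTransGen (Linked P) i j := by
  have hc := isPart_component P i
  rcases h _ hc.closed hc.symm hc.closed' hc.symm' with h' | h'
  · exact absurd (show i ∈ component P i from Relation.ReflTransGen.refl) (h' ▸ notMem_empty i)
  · exact (h' ▸ mem_univ j : j ∈ component P i)

lemma IsIrred.eq_univ_of_linked (h : IsIrred P) {R' : Set ι}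
    (hR : ∀ i ∈ R', ∀ j, Linked P i j → j ∈ R') {i : ι} (hi : i ∈ R') (j : ι) : j ∈ R' :=
  (isPart_of_linked hR).component_subset hi (h.reach i j)

/-- In an irreducible datum every root has a Weyl conjugate linked to any given root. -/
lemma IsIrred.exists_linked_conj (h : IsIrred P) (i j : ι) :
    ∃ g : P.Aut, g ∈ P.weylGroup ∧ Linked P (g • i) j := by
  by_contra hcon
  push Not at hcon
  have hJ : ∀ k ∈ {k | ∀ g : P.Aut, g ∈ P.weylGroup → P.pairing (g • i) k = 0}, ∀ l, Linked P k l →
      l ∈ {k | ∀ g : P.Aut, g ∈ P.weylGroup → P.pairing (g • i) k = 0} := by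
    intro k hk l hkl g hg
    by_contra hgl
    have h1 := hk (refl P l * g) (mul_mem (P.reflection_mem_weylGroup l) hg)
    have hroot := root_reflectionPerm' P l (g • i)
    have h2 : P.pairing (P.reflectionPerm l (g • i)) k =
        P.pairing (g • i) k - P.pairing (g • i) l * P.pairing l k := by
      rw [← P.root_coroot'_eq_pairing, hroot]
      simp
    rw [mul_smul, refl_smul_index, h2, hk g hg, zero_sub, neg_eq_zero, mul_eq_zero] at h1
    exact hkl ((isOrtho_iff P k l).mpr (pairing_zero_symm P (h1.resolve_left hgl)))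
  have hj : j ∈ {k | ∀ g : P.Aut, g ∈ P.weylGroup → P.pairing (g • i) k = 0} :=
    fun g hg => (hcon g hg).1
  have := h.eq_univ_of_linked hJ hj i 1 (one_mem _)
  rw [one_smul, P.pairing_same] at this
  exact absurd this (by norm_num)

section Simple

variable {Δ : Set ι} (hΔ : RootD.IsSimpleSys P Δ)

include hΔ in
lemma exists_linked_simple (k : ι) : ∃ i ∈ Δ, Linked P k i := by
  rcases mem_posOf_or hΔ k with h | h
  · obtain ⟨l, hl, hsum⟩ := (mem_natSpan_iff_list P).mp h
    obtain ⟨a, ha, hp⟩ := exists_pairing_pos_of_sum P hsum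
    exact ⟨a, hl a ha, fun h' => by have := h'.2; omega⟩
  · obtain ⟨l, hl, hsum⟩ := (mem_natSpan_iff_list P).mp h
    obtain ⟨a, ha, hp⟩ := exists_pairing_pos_of_sum P hsum
    rw [pairing_opp_right] at hp
    exact ⟨a, hl a ha, fun h' => by have := h'.2; omega⟩

/-- Roots of a part lie in the span of its simple roots. -/
lemma IsPart.mem_inSpan {R' : Set ι} (h : IsPart P R') {k : ι} (hk : k ∈ RootD.posOf P Δ)
    (hkR : k ∈ R') : P.root k ∈ Submodule.span ℤ (P.root '' (Δ ∩ R')) := by
  revert hkR
  refine posOf_induction (fun k => k ∈ R' → P.root k ∈ Submodule.span ℤ (P.root '' (Δ ∩ R'))) ?_ ?_ hk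
  · exact fun i hi hiR => Submodule.subset_span ⟨i, ⟨hi, hiR⟩, rfl⟩
  · intro i hi j k ihj _ hk hkR
    have hj : j ∈ R' := by
      by_contra hj
      exact (h.compl.mem_of_add hk hj).2 hkR
    rw [hk]
    exact Submodule.add_mem _ (ihj hj) (Submodule.subset_span ⟨i, ⟨hi, (h.mem_of_add hk hj).1⟩, rfl⟩)

include hΔ in
lemma IsPart.eq_inSpan {R' : Set ι} (h : IsPart P R') : R' = RootD.inSpan P (Δ ∩ R') := by
  have key : ∀ {R' : Set ι}, IsPart P R' → ∀ k ∈ R', k ∈ RootD.inSpan P (Δ ∩ R') := by
    intro R' h k hk
    rcases mem_posOf_or hΔ k with hpos | hneg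
    · exact h.mem_inSpan hpos hk
    · have := h.mem_inSpan hneg (h.symm hk)
      rw [root_opp, Submodule.neg_mem_iff] at this
      exact this
  refine subset_antisymm (key h) fun k hk => ?_
  by_contra hkR
  have h1 := (mem_inSpan_iff hΔ inter_subset_left k).mp hk
  have h2 := (mem_inSpan_iff hΔ inter_subset_left k).mp (key h.compl k hkR)
  obtain ⟨a, ha⟩ := Finsupp.support_nonempty_iff.mpr (coeff_ne_zero hΔ k)
  exact (h2 ha).2 (h1 ha).2

end Simple

end Groth.Agent.RootDat
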