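import Groth.Agent.RootDat.Lengths

/-!
# Dominant weights of a root datum
-/

set_option autoImplicit false
set_option linter.unusedSectionVars false

open Set Function
open Module hiding reflection
open scoped Pointwise

noncomputable section

namespace Groth.Agent.RootDat

variable {ι M N : Type*} [AddCommGroup M] [AddCommGroup N] {P : RootPairing ι ℤ M N} [Finite ι]
  {Δ : Set ι} (hΔ : RootD.IsSimpleSys P Δ)

lemma len_coroot'_eq_sum (m : M) (k : ι) :
    len P k * P.coroot' k m = (coeff hΔ k).sum fun a c => c * (len P a * P.coroot' a m) := by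
  have h3 : 2 * B P m (P.root k) = (coeff hΔ k).sum fun a c => c * (len P a * P.coroot' a m) := by
    conv_lhs => rw [← coeff_spec hΔ k]
    rw [Finsupp.linearCombination_apply, map_finsuppSum, Finsupp.mul_sum]
    refine Finsupp.sum_congr fun a _ => ?_
    rw [map_smul, smul_eq_mul, mul_left_comm, two_B, len, mul_comm (P.coroot' a m)]
  rw [← h3, two_B, len, mul_comm]

include hΔ in
lemma coroot'_nonneg {m : M} (hm : ∀ a ∈ Δ, 0 ≤ P.coroot' a m) {k : ι}
    (hk : k ∈ RootD.posOf P Δ) : 0 ≤ P.coroot' k m := by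
  have h := len_coroot'_eq_sum hΔ m k
  have h' : 0 ≤ len P k * P.coroot' k m := h ▸ Finset.sum_nonneg fun a ha =>
    mul_nonneg ((mem_posOf_iff hΔ k).mp hk a) (mul_nonneg (len_pos P a).le (hm a (coeff_support hΔ k ha)))
  exact nonneg_of_mul_nonneg_right h' (len_pos P k)

include hΔ in
lemma coroot'_pos {m : M} (hm : ∀ a ∈ Δ, 0 < P.coroot' a m) {k : ι}
    (hk : k ∈ RootD.posOf P Δ) : 0 < P.coroot' k m := by
  have h := len_coroot'_eq_sum hΔ m k
  obtain ⟨a, ha⟩ := Finsupp.support_nonempty_iff.mpr (coeff_ne_zero hΔ k)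
  have h' : 0 < len P k * P.coroot' k m := h ▸ Finset.sum_pos'
    (fun a ha => mul_nonneg ((mem_posOf_iff hΔ k).mp hk a)
      (mul_nonneg (len_pos P a).le (hm a (coeff_support hΔ k ha)).le))
    ⟨a, ha, mul_pos (((mem_posOf_iff hΔ k).mp hk a).lt_of_ne (Finsupp.mem_support_iff.mp ha).symm)
      (mul_pos (len_pos P a) (hm a (coeff_support hΔ k ha)))⟩
  exact pos_of_mul_pos_right h' (len_pos P k).le

/-- The sum of the positive roots. -/
def twoRho (P : RootPairing ι ℤ M N) (Δ : Set ι) : M :=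
  ∑ k ∈ (toFinite (RootD.posOf P Δ)).toFinset, P.root k

include hΔ in
lemma twoRho_pos {a : ι} (ha : a ∈ Δ) : 0 < P.coroot' a (twoRho P Δ) := by
  classical
  rw [twoRho, map_sum]
  set s := (toFinite (RootD.posOf P Δ)).toFinset with hs
  have hmem : ∀ k, k ∈ s ↔ k ∈ RootD.posOf P Δ := fun k => Set.Finite.mem_toFinset _
  rw [← Finset.sum_filter_add_sum_filter_not s (fun k => P.reflectionPerm a k ∈ RootD.posOf P Δ)]
  have hzero : ∑ k ∈ s.filter (fun k => P.reflectionPerm a k ∈ RootD.posOf P Δ),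
      P.coroot' a (P.root k) = 0 := by
    refine Finset.sum_involution (fun k _ => P.reflectionPerm a k) (fun k _ => ?_) (fun k _ hne heq => ?_)
      (fun k hk => ?_) (fun k _ => P.reflectionPerm_self a k)
    · rw [P.root_coroot'_eq_pairing, P.root_coroot'_eq_pairing, ← P.pairing_reflectionPerm,
        show P.reflectionPerm a a = opp P a from rfl, pairing_opp_right]
      ring
    · rw [P.root_coroot'_eq_pairing] at hne
      have := root_reflectionPerm' P a k
      rw [heq, eq_comm, sub_eq_self] at this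
      exact P.ne_zero a (eq_zero_of_smul P hne this)
    · rw [Finset.mem_filter, hmem] at hk ⊢
      exact ⟨hk.2, by rw [P.reflectionPerm_self]; exact hk.1⟩
  rw [hzero, zero_add]
  have hval : ∀ k ∈ s.filter (fun k => P.reflectionPerm a k ∉ RootD.posOf P Δ),
      0 < P.coroot' a (P.root k) := by
    intro k hk
    rw [Finset.mem_filter, hmem] at hk
    have hroot := root_eq_of_refl_neg hΔ ha hk.1 hk.2
    have hc : 0 ≤ coeff hΔ k a := (mem_posOf_iff hΔ k).mp hk.1 a
    have hc0 : coeff hΔ k a ≠ 0 := fun h0 => P.ne_zero k (by rw [hroot, h0, zero_smul])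
    rw [hroot, map_smul, P.root_coroot'_eq_pairing, P.pairing_same, smul_eq_mul]
    omega
  exact Finset.sum_pos hval ⟨a, Finset.mem_filter.mpr
    ⟨(hmem a).mpr (subset_posOf ha), fun h => not_posOf_opp hΔ (subset_posOf ha) h⟩⟩

variable {Γ : Type*} [AddCommGroup Γ] [LinearOrder Γ] [IsOrderedAddMonoid Γ] (f : M →+ Γ)

include hΔ in
/-- A dominant `f` strongly dominates its Weyl transforms. -/
lemma exists_dominance (hf : ∀ k ∈ RootD.posOf P Δ, 0 ≤ f (P.root k)) [Fintype ι] {g : P.Aut}
    (hg : g ∈ P.weylGroup) : ∃ c : ι → Γ, (∀ i, 0 ≤ c i) ∧ (∀ i, i ∉ Δ → c i = 0) ∧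
      ∀ m : M, f m - f (g • m) = ∑ i, (P.coroot' i m) • c i := by
  classical
  rw [← weylGroup_eq_closure P hΔ] at hg
  obtain ⟨l, hl, rfl⟩ := exists_word P hg
  clear hg
  induction hn : l.length using Nat.strong_induction_on generalizing l with
  | _ n ih =>
    by_cases hone : (l.map (refl P)).prod = 1
    · exact ⟨0, by simp, by simp, fun m => by rw [hone, one_smul]; simp⟩
    obtain ⟨i, hi, hneg⟩ := exists_neg_of_ne_one hΔ subset_rfl (word_mem P hl) hone
    obtain ⟨l', hsub', hlen, hprod⟩ := exists_shorter hΔ hl hi hneg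
    have hsplit : (l.map (refl P)).prod = (l'.map (refl P)).prod * refl P i := by
      rw [hprod, mul_assoc, refl_mul_self, mul_one]
    obtain ⟨c, hc0, hcS, hcm⟩ := ih l'.length (by omega) l' (fun a ha => hl a (hsub' a ha)) rfl
    have hpos : (l'.map (refl P)).prod • i ∈ RootD.posOf P Δ := by
      have h1 := (mem_posOf_or hΔ ((l.map (refl P)).prod • i)).resolve_left hneg
      rw [hsplit, mul_smul, refl_smul_index, show P.reflectionPerm i i = opp P i from rfl,
        smul_opp, opp_opp] at h1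
      exact h1
    refine ⟨c + Pi.single i (f ((l'.map (refl P)).prod • P.root i)), fun j => ?_, fun j hj => ?_,
      fun m => ?_⟩
    · refine add_nonneg (hc0 j) ?_
      rw [Pi.single_apply]
      split
      · rw [← root_smul]; exact hf _ hpos
      · exact le_rfl
    · rw [Pi.add_apply, hcS j hj, zero_add, Pi.single_apply, if_neg]
      rintro rfl
      exact hj hi
    · simp only [Pi.add_apply, smul_add, Finset.sum_add_distrib, ← hcm]
      rw [Finset.sum_eq_single i (fun j _ hj => by simp [Pi.single_eq_of_ne hj]) (by simp),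
        Pi.single_eq_same, hsplit, mul_smul, refl_smul, smul_sub, map_sub, smul_comm, map_zsmul]
      abel

include hΔ in
lemma apply_smul_le (hf : ∀ k ∈ RootD.posOf P Δ, 0 ≤ f (P.root k)) {g : P.Aut}
    (hg : g ∈ P.weylGroup) {m : M} (hm : ∀ a ∈ Δ, 0 ≤ P.coroot' a m) : f (g • m) ≤ f m := by
  let := Fintype.ofFinite ι
  obtain ⟨c, hc0, hcS, hcm⟩ := exists_dominance hΔ f hf hg
  rw [← sub_nonneg, hcm]
  refine Finset.sum_nonneg fun i _ => ?_
  by_cases hi : i ∈ Δ
  · exact zsmul_nonneg (hc0 i) (hm i hi)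
  · rw [hcS i hi, smul_zero]

include hΔ in
lemma dominant_of_weak
    (h : ∀ g : P.Aut, g ∈ P.weylGroup → ∀ m : M, (∀ i ∈ RootD.posOf P Δ, 0 ≤ P.coroot' i m) →
      f (g • m) ≤ f m) {k : ι} (hk : k ∈ RootD.posOf P Δ) : 0 ≤ f (P.root k) := by
  set m := twoRho P Δ
  have hpos : 0 < P.coroot' k m := coroot'_pos hΔ (fun a ha => twoRho_pos hΔ ha) hk
  have h1 := h (refl P k) (P.reflection_mem_weylGroup k) m fun i hi =>
    coroot'_nonneg hΔ (fun a ha => (twoRho_pos hΔ ha).le) hi
  rw [refl_smul, map_sub, map_zsmul, sub_le_self_iff] at h1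
  by_contra hlt
  have h2 : 0 < P.coroot' k m • (-f (P.root k)) := zsmul_pos (neg_pos.mpr (not_le.mp hlt)) hpos
  rw [smul_neg] at h2
  exact absurd h1 (not_le.mpr (neg_pos.mp h2))

omit [LinearOrder Γ] [IsOrderedAddMonoid Γ] in
lemma exists_dominant_conj {S : Set ι} (hS : RootD.IsPosSys P S) (m : M) :
    ∃ g : P.Aut, g ∈ P.weylGroup ∧ ∀ i ∈ S, 0 ≤ P.coroot' i (g⁻¹ • m) := by
  obtain ⟨g, hg, hgS⟩ := exists_weyl_subset P hS (P' := {i | 0 ≤ P.coroot' i m}) (fun i => by
      simp only [mem_ofPred_eq, coroot'_opp]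
      omega) (fun i j k hi hj hk => by
      have h := coroot'_len_add P hk m
      have h' : 0 ≤ len P k * P.coroot' k m := by
        rw [h]
        exact add_nonneg (mul_nonneg (len_pos P i).le hi) (mul_nonneg (len_pos P j).le hj)
      exact nonneg_of_mul_nonneg_right h' (len_pos P k))
  refine ⟨g, hg, fun i hi => ?_⟩
  rw [← coroot'_smul P g, smul_inv_smul]
  exact hgS ⟨i, hi, rfl⟩

end Groth.Agent.RootDat
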