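import Groth.Agent.RootDat.Lengths

/-!
# Extending systems of simple roots from saturated subsets; cones; dual systems
-/

set_option autoImplicit false
set_option linter.unusedSectionVars false

open Set Function
open Module hiding reflection

noncomputable section

namespace Groth.Agent.RootDat

variable {ι M N : Type*} [AddCommGroup M] [AddCommGroup N] (P : RootPairing ι ℤ M N) [Finite ι]

/-- Pairwise obtuse roots inside a pointed closed set are linearly independent. -/
lemma linearIndepOn_of_subset_half {S T : Set ι} (hdis : ∀ ⦃i : ι⦄, i ∈ S → opp P i ∉ S)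
    (hcl : RootD.IsClosedSub P S) (hTS : T ⊆ S)
    (hpair : ∀ i ∈ T, ∀ j ∈ T, i ≠ j → P.pairing i j ≤ 0) : LinearIndepOn ℤ P.root T := by
  refine linearIndepOn_of_nonpos P hpair fun c hc hc0 h0 => ?_
  by_contra hne
  obtain ⟨i, hi⟩ := Finsupp.support_nonempty_iff.mpr hne
  have hci : 0 < c i := (hc0 i).lt_of_ne (Finsupp.mem_support_iff.mp hi).symm
  classical
  have hmem : -P.root i ∈ RootD.natSpan P T := by
    refine (mem_natSpan_iff_coeff P).mpr ⟨c - Finsupp.single i 1, ?_, fun j => ?_, by simp [h0]⟩
    · intro j hj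
      rcases Finset.mem_union.mp (Finsupp.support_sub hj) with h | h
      · exact hc h
      · have := Finsupp.support_single_subset h
        simp only [Finset.mem_singleton] at this
        exact this ▸ hc hi
    · have := hc0 j
      simp only [Finsupp.sub_apply, Finsupp.single_apply]
      split
      · subst_vars; omega
      · omega
  exact P.ne_zero i (natSpan_pointed P hdis hcl (root_mem_natSpan P (hTS (hc hi)))
    (natSpan_mono P hTS hmem))

/-- Indivisible roots spanning, up to positive multiples, a positive system are its simple roots. -/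
lemma isSimpleSys_of_cone {Δ : Set ι} (hind : ∀ i ∈ Δ, RootD.IsIndiv P i)
    (hli : LinearIndepOn ℤ P.root Δ)
    (hcone : ∀ k : ι, ∃ n : ℕ, 0 < n ∧
      (n • P.root k ∈ RootD.natSpan P Δ ∨ n • (-P.root k) ∈ RootD.natSpan P Δ)) :
    RootD.IsSimpleSys P Δ := by
  classical
  let S : Set ι := {k | ∃ n : ℕ, 0 < n ∧ n • P.root k ∈ RootD.natSpan P Δ}
  have hS : RootD.IsPosSys P S := by
    refine isPosSys_of_closed P ?_ ?_ ?_
    · rintro k ⟨n, hn, h⟩ ⟨m, hm, h'⟩
      rw [root_opp] at h'
      have h1 := (RootD.natSpan P Δ).nsmul_mem h m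
      have h2 := (RootD.natSpan P Δ).nsmul_mem h' n
      rw [← mul_smul] at h1 h2
      rw [smul_neg, mul_comm] at h2
      have := natSpan_pointed' hli h1 h2
      rw [← natCast_zsmul] at this
      exact P.ne_zero k (eq_zero_of_smul P (by positivity) this)
    · intro k
      obtain ⟨n, hn, h | h⟩ := hcone k
      · exact .inl ⟨n, hn, h⟩
      · exact .inr ⟨n, hn, by rw [root_opp]; exact h⟩
    · rintro i j k ⟨n, hn, h⟩ ⟨m, hm, h'⟩ hk
      refine ⟨n * m, mul_pos hn hm, ?_⟩
      have h1 := (RootD.natSpan P Δ).nsmul_mem h m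
      have h2 := (RootD.natSpan P Δ).nsmul_mem h' n
      rw [← mul_smul] at h1 h2
      rw [hk, smul_add]
      exact AddSubmonoid.add_mem _ (mul_comm n m ▸ h1) h2
  set T := simpleOf P S with hTdef
  have hT : RootD.IsSimpleSys P T := isSimpleSys_simpleOf P hS
  have hsub : Δ ⊆ T := by
    intro i hi
    have hiS : i ∈ S := ⟨1, one_pos, by rw [one_nsmul]; exact root_mem_natSpan P hi⟩
    obtain ⟨c, hc, hc0, hci⟩ :=
      (mem_natSpan_iff_coeff P).mp (mem_natSpan_simpleOf P (isHalf_of_isPosSys P hS) hiS)
    have hne : c ≠ 0 := fun h => P.ne_zero i (by rw [← hci, h, map_zero])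
    obtain ⟨t, ht⟩ := Finsupp.support_nonempty_iff.mpr hne
    have hex : ∀ s ∈ c.support, ∃ n : ℕ, 0 < n ∧ n • P.root s ∈ RootD.natSpan P Δ :=
      fun s hs => (hc hs).1
    choose! n hn hnmem using hex
    have hexd : ∀ s ∈ c.support, ∃ d : ι →₀ ℤ, ↑d.support ⊆ Δ ∧ (∀ a, 0 ≤ d a) ∧
        Finsupp.linearCombination ℤ P.root d = n s • P.root s :=
      fun s hs => (mem_natSpan_iff_coeff P).mp (hnmem s hs)
    choose! d hd hd0 hds using hexd
    let W : ℕ := ∏ s ∈ c.support, n s
    let W' : ι → ℤ := fun s => ∏ s' ∈ c.support.erase s, (n s' : ℤ)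
    have hW : ∀ s ∈ c.support, W' s * n s = W := fun s hs => by
      rw [Nat.cast_prod]; exact Finset.prod_erase_mul c.support (fun s' => (n s' : ℤ)) hs
    have hkey : (W : ℤ) • Finsupp.single i 1 = ∑ s ∈ c.support, (c s * W' s) • d s := by
      refine comb_inj hli (fun a ha => ?_) ?_ ?_
      · have := Finsupp.support_single_subset (Finsupp.support_smul ha)
        simp only [Finset.mem_singleton] at this
        exact this ▸ hi
      · intro a ha
        obtain ⟨s, hs, h⟩ := Finset.mem_biUnion.mp (Finsupp.support_finsetSum ha)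
        exact hd s hs (Finsupp.support_smul h)
      · rw [map_smul, Finsupp.linearCombination_single, one_smul, map_sum]
        conv_lhs => rw [← hci, Finsupp.linearCombination_apply, Finsupp.sum, Finset.smul_sum]
        refine Finset.sum_congr rfl fun s hs => ?_
        rw [map_smul, hds s hs, ← natCast_zsmul, smul_smul, smul_smul, ← hW s hs]
        congr 1
        ring
    have hline : ∀ a ≠ i, d t a = 0 := by
      intro a ha
      have h := congrArg (fun e : ι →₀ ℤ => e a) hkey
      simp only [Finsupp.smul_apply, Finsupp.single_eq_of_ne ha, Finsupp.finsetSum_apply,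
        smul_eq_mul] at h
      have hnn : ∀ s ∈ c.support, 0 ≤ c s * W' s * d s a := fun s hs =>
        mul_nonneg (mul_nonneg (hc0 s) (Finset.prod_nonneg fun _ _ => Nat.cast_nonneg _)) (hd0 s hs a)
      have := (Finset.sum_eq_zero_iff_of_nonneg hnn).mp h.symm t ht
      rcases mul_eq_zero.mp this with h' | h'
      · rcases mul_eq_zero.mp h' with h'' | h''
        · exact absurd h'' (Finsupp.mem_support_iff.mp ht)
        · exact absurd h'' (Finset.prod_ne_zero_iff.mpr fun s hs => by
            have := hn s (Finset.mem_of_mem_erase hs); omega)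
      · exact h'
    have hdt : d t = Finsupp.single i (d t i) := Finsupp.ext fun a => by
      by_cases ha : a = i
      · rw [ha, Finsupp.single_eq_same]
      · rw [hline a ha, Finsupp.single_eq_of_ne ha]
    have hroot : (n t : ℤ) • P.root t = d t i • P.root i := by
      rw [natCast_zsmul, ← hds t ht, hdt, Finsupp.linearCombination_single, Finsupp.single_eq_same]
    have hnt : (n t : ℤ) ≠ 0 := by have := hn t ht; omega
    obtain ⟨e, he⟩ := dvd_of_smul_eq_smul P (hind i hi) hnt hroot
    have hte : P.root t = e • P.root i :=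
      smul_right_cancel P hnt (by rw [smul_smul, ← he, hroot])
    have h1 : Finsupp.single t 1 = e • c := by
      refine comb_inj hT.linInd (fun a ha => ?_) (fun a ha => hc (Finsupp.support_smul ha)) ?_
      · have := Finsupp.support_single_subset ha
        simp only [Finset.mem_singleton] at this
        exact this ▸ hc ht
      · rw [map_smul, hci, Finsupp.linearCombination_single, one_smul, hte]
    have h2 := congrArg (fun z : ι →₀ ℤ => z t) h1
    simp only [Finsupp.single_eq_same, Finsupp.smul_apply, smul_eq_mul] at h2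
    have he1 : e = 1 := by
      rcases Int.eq_one_or_neg_one_of_mul_eq_one h2.symm with h' | h'
      · exact h'
      · rw [h'] at h2
        have := hc0 t
        omega
    rw [he1, one_smul] at hte
    exact root_inj P hte ▸ hc ht
  have heq : T = Δ := by
    refine subset_antisymm (fun t ht => ?_) hsub
    by_contra htΔ
    obtain ⟨n, hn, hmem⟩ := (simpleOf_subset P S ht : t ∈ S)
    obtain ⟨c, hc, -, hct⟩ := (mem_natSpan_iff_coeff P).mp hmem
    have h1 : Finsupp.single t (n : ℤ) = c := by
      refine comb_inj hT.linInd (fun a ha => ?_) (hc.trans hsub) ?_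
      · have := Finsupp.support_single_subset ha
        simp only [Finset.mem_singleton] at this
        exact this ▸ ht
      · rw [hct, Finsupp.linearCombination_single, natCast_zsmul]
    have h2 := congrArg (fun z : ι →₀ ℤ => z t) h1
    rw [Finsupp.single_eq_same, Finsupp.notMem_support_iff.mp fun h => htΔ (hc h)] at h2
    omega
  exact heq ▸ hT

lemma exists_orth (s : Finset ι) {x : M} (hx : x ∈ Submodule.span ℤ (range P.root)) :
    ∃ d : ℤ, d ≠ 0 ∧ ∃ z ∈ Submodule.span ℤ (P.root '' (s : Set ι)),
      ∀ a ∈ s, B P (d • x - z) (P.root a) = 0 := by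
  classical
  induction s using Finset.induction_on generalizing x with
  | empty => exact ⟨1, one_ne_zero, 0, zero_mem _, fun a ha => absurd ha (Finset.notMem_empty a)⟩
  | @insert v s hv ih =>
    obtain ⟨d, hd, z, hz, horth⟩ := ih hx
    obtain ⟨d', hd', z', hz', horth'⟩ := ih (root_mem_span P v)
    set y := d • x - z with hy
    set w := d' • P.root v - z' with hw
    have hsub : Submodule.span ℤ (P.root '' (s : Set ι)) ≤
        Submodule.span ℤ (P.root '' (↑(insert v s) : Set ι)) :=
      Submodule.span_mono (image_mono (by simp))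
    have hker : ∀ u : M, (∀ a ∈ s, B P u (P.root a) = 0) → B P u z' = 0 := fun u hu => by
      have : Submodule.span ℤ (P.root '' (s : Set ι)) ≤ LinearMap.ker (B P u) := by
        rw [Submodule.span_le]; rintro _ ⟨a, ha, rfl⟩; exact hu a ha
      exact this hz'
    have hdec : ∀ u : M, (∀ a ∈ s, B P u (P.root a) = 0) →
        d' * B P u (P.root v) = B P u w := fun u hu => by
      rw [hw, map_sub, map_smul, hker u hu, sub_zero, smul_eq_mul]
    by_cases hw0 : w = 0
    · refine ⟨d, hd, z, hsub hz, fun a ha => ?_⟩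
      rcases Finset.mem_insert.mp ha with rfl | ha
      · have := hdec y horth
        rw [hw0, map_zero] at this
        exact (mul_eq_zero.mp this).resolve_left hd'
      · exact horth a ha
    have hwspan : w ∈ Submodule.span ℤ (range P.root) :=
      Submodule.sub_mem _ (Submodule.smul_mem _ _ (root_mem_span P v)) (span_image_le P _ hz')
    have hwins : w ∈ Submodule.span ℤ (P.root '' (↑(insert v s) : Set ι)) :=
      Submodule.sub_mem _ (Submodule.smul_mem _ _ (Submodule.subset_span ⟨v, by simp, rfl⟩)) (hsub hz')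
    have hl := B_self_pos P hwspan hw0
    refine ⟨B P w w * d, mul_ne_zero hl.ne' hd, B P w w • z + B P y w • w,
      Submodule.add_mem _ (Submodule.smul_mem _ _ (hsub hz)) (Submodule.smul_mem _ _ hwins),
      fun a ha => ?_⟩
    have hu : (B P w w * d) • x - (B P w w • z + B P y w • w) = B P w w • y - B P y w • w := by
      rw [hy]
      module
    rw [hu]
    have hu0 : ∀ a ∈ s, B P (B P w w • y - B P y w • w) (P.root a) = 0 := fun a ha => by
      simp [horth a ha, horth' a ha]
    rcases Finset.mem_insert.mp ha with rfl | ha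
    · have h := hdec _ hu0
      simp only [map_sub, LinearMap.sub_apply, map_smul, LinearMap.smul_apply, smul_eq_mul] at h ⊢
      exact (mul_eq_zero.mp (h.trans (by ring))).resolve_left hd'
    · exact hu0 a ha

/-- The saturation of a set of roots. -/
def satSet (R' : Set ι) : Set ι :=
  {k | ∃ n : ℕ, 0 < n ∧ n • P.root k ∈ Submodule.span ℤ (P.root '' R')}

lemma subset_satSet (R' : Set ι) : R' ⊆ satSet P R' := fun k hk =>
  ⟨1, one_pos, by rw [one_nsmul]; exact Submodule.subset_span ⟨k, hk, rfl⟩⟩

/-- A functional vanishing exactly on the saturation of a set of roots. -/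
lemma exists_sep (R' : Set ι) :
    ∃ φ : M →ₗ[ℤ] ℤ, (∀ k ∈ satSet P R', φ (P.root k) = 0) ∧
      ∀ k ∉ satSet P R', φ (P.root k) ≠ 0 := by
  classical
  let := Fintype.ofFinite ι
  have hy : ∀ k : ι, ∃ y : M, (∀ a ∈ R', B P y (P.root a) = 0) ∧
      (k ∉ satSet P R' → B P y (P.root k) ≠ 0) := by
    intro k
    obtain ⟨d, hd, z, hz, horth⟩ := exists_orth P (toFinite R').toFinset (root_mem_span P k)
    rw [Set.Finite.coe_toFinset] at hz
    refine ⟨d • P.root k - z, fun a ha => horth a ((toFinite R').mem_toFinset.mpr ha), fun hk h0 => ?_⟩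
    have hker : B P (d • P.root k - z) z = 0 := by
      have : Submodule.span ℤ (P.root '' R') ≤ LinearMap.ker (B P (d • P.root k - z)) := by
        rw [Submodule.span_le]; rintro _ ⟨a, ha, rfl⟩; exact horth a ((toFinite R').mem_toFinset.mpr ha)
      exact this hz
    have hyy : B P (d • P.root k - z) (d • P.root k - z) = 0 := by
      rw [map_sub (B P (d • P.root k - z)), map_smul, h0, hker, smul_zero, sub_zero]
    have h0' : d • P.root k - z = 0 := B_self_eq_zero P
      (Submodule.sub_mem _ (Submodule.smul_mem _ _ (root_mem_span P k)) (span_image_le P _ hz)) hyy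
    rw [sub_eq_zero] at h0'
    refine hk ⟨d.natAbs, by omega, ?_⟩
    rw [← natCast_zsmul]
    rcases Int.natAbs_eq d with h | h
    · rw [← h, h0']; exact hz
    · rw [show (d.natAbs : ℤ) = -d by omega, neg_smul, h0']
      exact Submodule.neg_mem _ hz
  choose y hy0 hy1 using hy
  let e := Fintype.equivFin ι
  let q : ι → Polynomial ℤ := fun k => ∑ j, Polynomial.monomial (e j : ℕ) (B P (y j) (P.root k))
  have hq : ∀ k ∉ satSet P R', q k ≠ 0 := by
    intro k hk h
    have := congrArg (fun r => Polynomial.coeff r (e k : ℕ)) h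
    simp [q, Polynomial.coeff_monomial, Fin.val_inj, hy1 k hk] at this
  obtain ⟨t, ht⟩ := Infinite.exists_notMem_finset
    (Finset.univ.biUnion fun k => (q k).roots.toFinset)
  let f : M →ₗ[ℤ] ℤ := ∑ j, t ^ (e j : ℕ) • B P (y j)
  refine ⟨f, fun k hk => ?_, fun k hk h => ?_⟩
  · obtain ⟨n, hn, hmem⟩ := hk
    have hle : Submodule.span ℤ (P.root '' R') ≤ LinearMap.ker f := by
      rw [Submodule.span_le]
      rintro _ ⟨a, ha, rfl⟩
      simp [f, hy0 _ a ha]
    have := hle hmem
    rw [LinearMap.mem_ker, map_nsmul, smul_eq_zero] at this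
    exact this.resolve_left (by omega)
  · apply ht
    refine Finset.mem_biUnion.mpr ⟨k, Finset.mem_univ k, ?_⟩
    rw [Multiset.mem_toFinset, Polynomial.mem_roots (hq k hk), Polynomial.IsRoot, ← h]
    simp [q, f, Polynomial.eval_finsetSum, mul_comm]

/-- Lexicographic positive systems. -/
lemma isPosSys_lex (φ : M →ₗ[ℤ] ℤ) {T : Set ι} (hT0 : ∀ k ∈ T, φ (P.root k) = 0)
    (hdis : ∀ k ∈ T, opp P k ∉ T) (hcov : ∀ k, φ (P.root k) = 0 → k ∈ T ∨ opp P k ∈ T)
    (hcl : RootD.IsClosedSub P T) : RootD.IsPosSys P ({k | 0 < φ (P.root k)} ∪ T) := by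
  refine isPosSys_of_closed P ?_ ?_ ?_
  · rintro k (hk | hk) (hk' | hk')
    · simp only [mem_ofPred_eq, root_opp, map_neg] at hk hk'; omega
    · have := hT0 _ hk'
      simp only [mem_ofPred_eq, root_opp, map_neg] at hk this; omega
    · have := hT0 _ hk
      simp only [mem_ofPred_eq, root_opp, map_neg] at hk'; omega
    · exact hdis k hk hk'
  · intro k
    rcases lt_trichotomy (φ (P.root k)) 0 with h | h | h
    · exact .inr (.inl (by simp only [mem_ofPred_eq, root_opp, map_neg]; omega))
    · exact (hcov k h).imp .inr .inr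
    · exact .inl (.inl h)
  · intro i j k hi hj hk
    have hnn : ∀ a ∈ {k | 0 < φ (P.root k)} ∪ T, 0 ≤ φ (P.root a) := by
      rintro a (ha | ha)
      · exact le_of_lt ha
      · exact (hT0 a ha).ge
    have hadd : φ (P.root k) = φ (P.root i) + φ (P.root j) := by rw [hk, map_add]
    by_cases h0 : 0 < φ (P.root k)
    · exact .inl h0
    have hi0 := hnn i hi
    have hj0 := hnn j hj
    exact .inr (hcl (hi.resolve_left fun h => by simp only [mem_ofPred_eq] at h; omega)
      (hj.resolve_left fun h => by simp only [mem_ofPred_eq] at h; omega) hk)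

/-- Extension of a system of simple roots of the roots on which `φ` vanishes. -/
lemma exists_simpleSys_ext (φ : M →ₗ[ℤ] ℤ) {Δ' : Set ι} (h0 : ∀ i ∈ Δ', φ (P.root i) = 0)
    (hli : LinearIndepOn ℤ P.root Δ')
    (hgen : ∀ k, φ (P.root k) = 0 → P.root k ∈ RootD.natSpan P Δ' ∨ -P.root k ∈ RootD.natSpan P Δ') :
    ∃ Δ : Set ι, RootD.IsSimpleSys P Δ ∧ Δ' ⊆ Δ ∧
      ∀ k, φ (P.root k) = 0 ↔ k ∈ RootD.inSpan P Δ' := by
  classical
  let T : Set ι := {k | φ (P.root k) = 0 ∧ P.root k ∈ RootD.natSpan P Δ'}
  have hS := isPosSys_lex P φ (T := T) (fun k hk => hk.1) (fun k hk hk' => by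
      have := hk'.2
      rw [root_opp] at this
      exact P.ne_zero k (natSpan_pointed' hli hk.2 this))
    (fun k hk => by
      rcases hgen k hk with h | h
      · exact .inl ⟨hk, h⟩
      · exact .inr ⟨by rw [root_opp, map_neg, hk, neg_zero], by rw [root_opp]; exact h⟩)
    (fun i j k hi hj hk => ⟨by rw [hk, map_add, hi.1, hj.1, add_zero],
      by rw [hk]; exact AddSubmonoid.add_mem _ hi.2 hj.2⟩)
  refine ⟨_, isSimpleSys_simpleOf P hS, fun i hi => ?_, fun k => ⟨fun hk => ?_, fun hk => ?_⟩⟩
  · refine ⟨.inr ⟨h0 i hi, root_mem_natSpan P hi⟩, fun j hj k hk hijk => ?_⟩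
    have hnn : ∀ a ∈ {k | 0 < φ (P.root k)} ∪ T, 0 ≤ φ (P.root a) := by
      rintro a (ha | ha)
      · exact le_of_lt ha
      · exact ha.1.ge
    have hsum : φ (P.root i) = φ (P.root j) + φ (P.root k) := by rw [hijk, map_add]
    have hi0 := h0 i hi
    have hj0 := hnn j hj
    have hk0 := hnn k hk
    have hjT : j ∈ T := hj.resolve_left fun h => by simp only [mem_ofPred_eq] at h; omega
    have hkT : k ∈ T := hk.resolve_left fun h => by simp only [mem_ofPred_eq] at h; omega
    obtain ⟨c, hc, hc0, hcj⟩ := (mem_natSpan_iff_coeff P).mp hjT.2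
    obtain ⟨d, hd, hd0, hdk⟩ := (mem_natSpan_iff_coeff P).mp hkT.2
    have heq : Finsupp.single i 1 = c + d := by
      refine comb_inj hli (fun a ha => ?_) (fun a ha => ?_)
        (by rw [map_add, hcj, hdk, Finsupp.linearCombination_single, one_smul, hijk])
      · have := Finsupp.support_single_subset ha
        simp only [Finset.mem_singleton] at this
        exact this ▸ hi
      · rcases Finset.mem_union.mp (Finsupp.support_add ha) with h | h
        · exact hc h
        · exact hd h
    have hne : ∀ a ≠ i, c a = 0 ∧ d a = 0 := fun a ha => by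
      have := congrArg (fun z : ι →₀ ℤ => z a) heq
      simp only [Finsupp.add_apply, Finsupp.single_eq_of_ne ha] at this
      have := hc0 a; have := hd0 a
      omega
    have hii : 1 = c i + d i := by simpa using congrArg (fun z : ι →₀ ℤ => z i) heq
    rcases (show c i = 0 ∨ d i = 0 by have := hc0 i; have := hd0 i; omega) with h | h
    · refine P.ne_zero j ?_
      rw [← hcj, show c = 0 from Finsupp.ext fun a => by
        by_cases ha : a = i
        · rw [ha]; exact h
        · exact (hne a ha).1, map_zero]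
    · refine P.ne_zero k ?_
      rw [← hdk, show d = 0 from Finsupp.ext fun a => by
        by_cases ha : a = i
        · rw [ha]; exact h
        · exact (hne a ha).2, map_zero]
  · rcases hgen k hk with h | h
    · exact natSpan_le_span P Δ' h
    · exact (Submodule.neg_mem_iff _).mp (natSpan_le_span P Δ' h)
  · have hle : Submodule.span ℤ (P.root '' Δ') ≤ LinearMap.ker φ := by
      rw [Submodule.span_le]; rintro _ ⟨a, ha, rfl⟩; exact h0 a ha
    exact hle hk

section Dual

lemma isPosSys_flip {S : Set ι} (hS : RootD.IsPosSys P S) : RootD.IsPosSys P.flip S := by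
  refine isPosSys_of_closed P.flip (fun i hi => hS.disjoint hi) hS.cover ?_
  intro i j k hi hj hk
  have h := len_coroot_add P.flip hk
  change len P.flip k • P.root k = len P.flip i • P.root i + len P.flip j • P.root j at h
  refine hS.sat (len P.flip k).toNat (by have := len_pos P.flip k; omega) ?_
  rw [← natCast_zsmul, Int.toNat_of_nonneg (len_pos P.flip k).le, h,
    ← Int.toNat_of_nonneg (len_pos P.flip i).le, ← Int.toNat_of_nonneg (len_pos P.flip j).le,
    natCast_zsmul, natCast_zsmul]
  exact AddSubmonoid.add_mem _ (AddSubmonoid.nsmul_mem _ (root_mem_natSpan P hi) _)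
    (AddSubmonoid.nsmul_mem _ (root_mem_natSpan P hj) _)

/-- The indivisible parts of the coroots of a set of roots. -/
def indCoroots (Δ : Set ι) : Set ι :=
  {j | ∃ i ∈ Δ, (j = i ∧ RootD.IsIndiv P.flip i) ∨ (2 : ℤ) • P.coroot j = P.coroot i}

lemma exists_indCoroot {Δ : Set ι} {i : ι} (hi : i ∈ Δ) : ∃ u ∈ indCoroots P Δ, ∃ a : ℤ,
    (a = 1 ∨ a = 2) ∧ a • P.coroot u = P.coroot i ∧ P.root u = a • P.root i ∧
      (RootD.IsIndiv P.flip i → a = 1) := by
  have := torsionFree_right P
  by_cases h : RootD.IsIndiv P.flip i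
  · exact ⟨i, ⟨i, hi, .inl ⟨rfl, h⟩⟩, 1, .inl rfl, one_smul _ _, (one_smul _ _).symm, fun _ => rfl⟩
  · obtain ⟨j, hj⟩ := not_forall.mp h
    rw [not_not] at hj
    have := torsionFree_left P
    exact ⟨j, ⟨i, hi, .inr hj⟩, 2, .inr rfl, hj,
      (P.flip.smul_coroot_eq_of_root_eq_smul j i 2 hj.symm).symm, fun h' => absurd h' h⟩

lemma of_mem_indCoroots {Δ : Set ι} {u : ι} (hu : u ∈ indCoroots P Δ) :
    ∃ i ∈ Δ, ∃ a : ℤ, (a = 1 ∨ a = 2) ∧ a • P.coroot u = P.coroot i ∧ P.root u = a • P.root i ∧
      RootD.IsIndiv P.flip u := by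
  have := torsionFree_left P
  obtain ⟨i, hi, ⟨rfl, h⟩ | h⟩ := hu
  · exact ⟨u, hi, 1, .inl rfl, one_smul _ _, (one_smul _ _).symm, h⟩
  · have hr : P.root u = (2 : ℤ) • P.root i :=
      (P.flip.smul_coroot_eq_of_root_eq_smul u i 2 h.symm).symm
    refine ⟨i, hi, 2, .inr rfl, h, hr, fun k hk => ?_⟩
    have hk' : (2 : ℤ) • P.coroot k = P.coroot u := hk
    have h4 := congrArg (P.root' i) h
    rw [← hk', map_smul, map_smul, P.root'_coroot_eq_pairing, P.root'_coroot_eq_pairing,
      P.pairing_same] at h4
    simp only [smul_eq_mul] at h4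
    omega

lemma isSimpleSys_indCoroots {Δ : Set ι} (hΔ : RootD.IsSimpleSys P Δ) :
    RootD.IsSimpleSys P.flip (indCoroots P Δ) := by
  classical
  have hS := isPosSys_posOf hΔ
  have hS' := isPosSys_flip P hS
  refine isSimpleSys_of_cone P.flip (fun u hu => ?_) ?_ (fun k => ?_)
  · obtain ⟨i, -, a, -, -, -, h⟩ := of_mem_indCoroots P hu
    exact h
  · refine linearIndepOn_of_subset_half P.flip hS'.disjoint (isClosed_of_isPosSys P.flip hS')
      (fun u hu => ?_) fun u hu u' hu' hne => ?_
    · obtain ⟨i, hi, a, ha, -, hr, -⟩ := of_mem_indCoroots P hu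
      show P.root u ∈ RootD.natSpan P Δ
      rw [hr]
      rcases ha with rfl | rfl
      · rw [one_smul]; exact root_mem_natSpan P hi
      · rw [two_smul]; exact AddSubmonoid.add_mem _ (root_mem_natSpan P hi) (root_mem_natSpan P hi)
    · obtain ⟨i, hi, a, ha, hca, hr, hiu⟩ := of_mem_indCoroots P hu
      obtain ⟨i', hi', a', ha', hca', hr', hiu'⟩ := of_mem_indCoroots P hu'
      have hii : i ≠ i' := by
        rintro rfl
        apply hne
        have htf := torsionFree_right P
        rcases ha with rfl | rfl <;> rcases ha' with rfl | rfl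
        · exact P.coroot.injective (by simpa using hca.trans hca'.symm)
        · exact absurd (hca'.trans (hca.symm.trans (one_smul _ _))) (hiu u')
        · exact absurd (hca.trans (hca'.symm.trans (one_smul _ _))) (hiu' u)
        · exact P.coroot.injective (zsmul_right_injective two_ne_zero (hca.trans hca'.symm))
      show P.pairing u' u ≤ 0
      rw [← B_root_nonpos_iff, hr, hr']
      simp only [map_smul, LinearMap.smul_apply, smul_eq_mul]
      have heq := eq_simpleOf hΔ hS subset_posOf
      have := (B_root_nonpos_iff P i' i).mpr (pairing_simpleOf_nonpos P (isHalf_of_isPosSys P hS)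
        (heq ▸ hi') (heq ▸ hi) (Ne.symm hii))
      rcases ha with rfl | rfl <;> rcases ha' with rfl | rfl <;> linarith
  · have key : ∀ k ∈ RootD.posOf P Δ, ∃ n : ℕ, 0 < n ∧
        n • P.coroot k ∈ RootD.natSpan P.flip (indCoroots P Δ) := by
      intro k hk
      refine ⟨(len P k).toNat, by have := len_pos P k; omega, ?_⟩
      rw [← natCast_zsmul, Int.toNat_of_nonneg (len_pos P k).le, len_smul_coroot,
        ← coeff_spec hΔ k, Finsupp.linearCombination_apply, Finsupp.sum, map_sum, Finset.smul_sum]
      refine AddSubmonoid.sum_mem _ fun i hi => ?_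
      rw [map_smul, smul_comm, ← len_smul_coroot, smul_smul,
        ← Int.toNat_of_nonneg (mul_nonneg ((mem_posOf_iff hΔ k).mp hk i) (len_pos P i).le),
        natCast_zsmul]
      refine AddSubmonoid.nsmul_mem _ ?_ _
      obtain ⟨u, hu, a, ha, hau, -⟩ := exists_indCoroot P (coeff_support hΔ k hi)
      rw [← hau]
      have hmem : P.coroot u ∈ RootD.natSpan P.flip (indCoroots P Δ) := root_mem_natSpan P.flip hu
      rcases ha with rfl | rfl
      · rw [one_smul]; exact hmem
      · rw [two_smul]; exact AddSubmonoid.add_mem _ hmem hmem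
    rcases mem_posOf_or hΔ k with h | h
    · obtain ⟨n, hn, h'⟩ := key k h
      exact ⟨n, hn, .inl h'⟩
    · obtain ⟨n, hn, h'⟩ := key _ h
      rw [coroot_opp] at h'
      exact ⟨n, hn, .inr h'⟩

end Dual

end Groth.Agent.RootDat
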