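import Groth.Agent.RootDat.Components

/-!
# Root lengths for the canonical form
-/

set_option autoImplicit false
set_option linter.unusedSectionVars false

open Set Function
open Module hiding reflection
open scoped Pointwise

noncomputable section

namespace Groth.Agent.RootDat

variable {ι M N : Type*} [AddCommGroup M] [AddCommGroup N] (P : RootPairing ι ℤ M N) [Finite ι]

/-- The squared length of a root for the canonical form. -/
def len (i : ι) : ℤ := B P (P.root i) (P.root i)

lemma len_pos (i : ι) : 0 < len P i := B_root_pos P i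

lemma len_smul {g : P.Aut} (hg : g ∈ P.weylGroup) (i : ι) : len P (g • i) = len P i := by
  rw [len, root_smul, B_smul P hg]; rfl

lemma len_opp (i : ι) : len P (opp P i) = len P i := by
  rw [len, root_opp]; simp [len]

lemma pairing_len (i j : ι) : P.pairing i j * len P j = P.pairing j i * len P i :=
  pairing_mul_eq P i j

lemma pairing_pairing_mem (i j : ι) : (P.pairing i j, P.pairing j i) ∈
    ({(0, 0), (1, 1), (-1, -1), (1, 2), (2, 1), (-1, -2), (-2, -1), (1, 3), (3, 1), (-1, -3),
        (-3, -1), (4, 1), (1, 4), (-4, -1), (-1, -4), (2, 2), (-2, -2)} : Set (ℤ × ℤ)) := by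
  have := P.pairingIn_pairingIn_mem_set_of_isCrystallographic i j
  rwa [pairingIn_eq, pairingIn_eq] at this

lemma root_eq_or_of_pairing_two {i j : ι} (hl : len P i = len P j)
    (hp : P.pairing i j = 2 ∨ P.pairing i j = -2) :
    i = j ∨ i = opp P j := by
  have hB := two_B_root P i j
  have hsq : B P (2 • P.root i - P.pairing i j • P.root j)
      (2 • P.root i - P.pairing i j • P.root j) = 0 := by
    simp only [map_sub, LinearMap.sub_apply, map_smul, LinearMap.smul_apply, map_nsmul,
      smul_eq_mul, nsmul_eq_mul, B_symm P (P.root j) (P.root i)]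
    simp only [len] at hl
    rcases hp with hp | hp <;> rw [hp] at hB ⊢ <;> push_cast <;> linarith
  have h0 := B_self_eq_zero P (Submodule.sub_mem _ (Submodule.smul_of_tower_mem _ _ (root_mem_span P i))
    (Submodule.smul_mem _ _ (root_mem_span P j))) hsq
  rw [sub_eq_zero, ← natCast_zsmul] at h0
  rcases hp with hp | hp <;> rw [hp] at h0
  · exact .inl (root_inj P (smul_right_cancel P two_ne_zero (by exact_mod_cast h0)))
  · refine .inr ((eq_opp_iff P).mpr (smul_right_cancel P two_ne_zero ?_))
    rw [smul_neg, ← neg_smul]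
    exact_mod_cast h0

/-- Linked roots of equal length are conjugate. -/
lemma exists_smul_eq_of_len_eq {i j : ι} (hl : len P i = len P j) (h : Linked P i j) :
    ∃ g : P.Aut, g ∈ P.weylGroup ∧ g • i = j := by
  rw [Linked, isOrtho_iff] at h
  have hpq : P.pairing j i = P.pairing i j := by
    have := pairing_len P i j
    rw [hl] at this
    exact mul_right_cancel₀ (len_pos P j).ne' this.symm
  have hopp : i = j ∨ i = opp P j → ∃ g : P.Aut, g ∈ P.weylGroup ∧ g • i = j := by
    rintro (rfl | rfl)
    · exact ⟨1, one_mem _, one_smul _ _⟩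
    · exact ⟨refl P j, P.reflection_mem_weylGroup j, by
        rw [refl_smul_index]; exact P.reflectionPerm_self j j⟩
  have hmem := pairing_pairing_mem P i j
  rw [hpq] at hmem
  simp only [mem_insert_iff, mem_singleton_iff, Prod.mk.injEq] at hmem
  rcases (show P.pairing i j = 1 ∨ P.pairing i j = -1 ∨ P.pairing i j = 2 ∨ P.pairing i j = -2 by
    omega) with hp | hp | hp | hp
  · refine ⟨refl P j * (refl P i * refl P j), mul_mem (P.reflection_mem_weylGroup j)
      (mul_mem (P.reflection_mem_weylGroup i) (P.reflection_mem_weylGroup j)), root_inj P ?_⟩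
    simp only [mul_smul, root_smul, RootPairing.Equiv.reflection_smul]
    simp only [P.reflection_apply_root, map_sub, map_smul, hp, hpq]
    simp only [one_smul, P.pairing_same, two_smul]
    abel
  · refine ⟨refl P i * refl P j, mul_mem (P.reflection_mem_weylGroup i)
      (P.reflection_mem_weylGroup j), root_inj P ?_⟩
    simp only [mul_smul, root_smul, RootPairing.Equiv.reflection_smul, P.reflection_apply_root,
      map_sub, map_smul, hp, hpq]
    simp only [neg_smul, one_smul, P.pairing_same, two_smul]
    abel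
  · exact hopp (root_eq_or_of_pairing_two P hl (.inl hp))
  · exact hopp (root_eq_or_of_pairing_two P hl (.inr hp))

variable {P} in
lemma IsIrred.exists_smul_eq (h : IsIrred P) {i j : ι} (hl : len P i = len P j) :
    ∃ g : P.Aut, g ∈ P.weylGroup ∧ g • i = j := by
  obtain ⟨g, hg, hlink⟩ := h.exists_linked_conj i j
  obtain ⟨g', hg', hgj⟩ := exists_smul_eq_of_len_eq P ((len_smul P hg i).trans hl) hlink
  exact ⟨g' * g, mul_mem hg' hg, by rw [mul_smul, hgj]⟩

variable {P} in
/-- In an irreducible datum the minimal squared length divides all squared lengths. -/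
lemma IsIrred.exists_len_eq_mul (h : IsIrred P) {i₀ : ι} (hmin : ∀ i, len P i₀ ≤ len P i) (i : ι) :
    ∃ c : ℤ, (c = 1 ∨ c = 2 ∨ c = 3 ∨ c = 4) ∧ len P i = c * len P i₀ := by
  obtain ⟨g, hg, hlink⟩ := h.exists_linked_conj i i₀
  rw [Linked, isOrtho_iff] at hlink
  have hlen := len_smul P hg i
  set j := g • i
  rw [← hlen]
  have h1 := pairing_len P j i₀
  have h2 := hmin j
  have h3 := len_pos P i₀
  have hmem := pairing_pairing_mem P j i₀
  simp only [mem_insert_iff, mem_singleton_iff, Prod.mk.injEq] at hmem
  rcases hmem with ⟨ha, hb⟩ | ⟨ha, hb⟩ | ⟨ha, hb⟩ | ⟨ha, hb⟩ | ⟨ha, hb⟩ | ⟨ha, hb⟩ | ⟨ha, hb⟩ |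
    ⟨ha, hb⟩ | ⟨ha, hb⟩ | ⟨ha, hb⟩ | ⟨ha, hb⟩ | ⟨ha, hb⟩ | ⟨ha, hb⟩ | ⟨ha, hb⟩ | ⟨ha, hb⟩ |
    ⟨ha, hb⟩ | ⟨ha, hb⟩ <;> rw [ha, hb] at h1
  all_goals first
    | exact absurd ha hlink
    | exact ⟨1, .inl rfl, by linarith⟩
    | exact ⟨2, .inr (.inl rfl), by linarith⟩
    | exact ⟨3, .inr (.inr (.inl rfl)), by linarith⟩
    | exact ⟨4, .inr (.inr (.inr rfl)), by linarith⟩

/-- The polarisation of a root, over `Finite`. -/
def pol : M →ₗ[ℤ] N :=
  letI := Fintype.ofFinite ι
  P.Polarization

lemma len_smul_coroot (i : ι) : len P i • P.coroot i = (2 : ℕ) • pol P (P.root i) := by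
  let := Fintype.ofFinite ι
  exact P.rootForm_self_smul_coroot i

lemma len_coroot_add {i j k : ι} (h : P.root k = P.root i + P.root j) :
    len P k • P.coroot k = len P i • P.coroot i + len P j • P.coroot j := by
  rw [len_smul_coroot, len_smul_coroot, len_smul_coroot, ← smul_add, ← map_add, h]

lemma coroot'_len_add {i j k : ι} (h : P.root k = P.root i + P.root j) (m : M) :
    len P k * P.coroot' k m = len P i * P.coroot' i m + len P j * P.coroot' j m := by
  have := congrArg (fun n => P.toLinearMap m n) (len_coroot_add P h)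
  simpa using this

lemma coroot'_opp (i : ι) (m : M) : P.coroot' (opp P i) m = -P.coroot' i m := by
  simp [RootPairing.coroot']

/-- `ℓ(α) ℓ(α^∨)` agrees at linked roots. -/
lemma len_mul_len_flip {i j : ι} (h : Linked P i j) :
    len P i * len P.flip i = len P j * len P.flip j := by
  rw [Linked, isOrtho_iff] at h
  have hq : P.pairing j i ≠ 0 := fun h0 => h (pairing_zero_symm P h0)
  have h1 := pairing_len P i j
  have h2 : P.pairing j i * len P.flip j = P.pairing i j * len P.flip i := pairing_len P.flip i j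
  refine mul_left_cancel₀ (mul_ne_zero h hq) ?_
  linear_combination -(P.pairing i j * len P.flip i) * h1 - P.pairing i j * len P j * h2

end Groth.Agent.RootDat
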