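import Groth.Agent.RootDat.Basic

/-!
# Positive systems and systems of simple roots of a root datum over `ℤ`
-/

set_option autoImplicit false
set_option linter.unusedSectionVars false

open Set Function
open Module hiding reflection

noncomputable section

namespace Groth.Agent.RootDat

variable {ι M N : Type*} [AddCommGroup M] [AddCommGroup N] (P : RootPairing ι ℤ M N)

lemma root_mem_natSpan {S : Set ι} {i : ι} (h : i ∈ S) : P.root i ∈ RootD.natSpan P S :=
  AddSubmonoid.subset_closure (mem_image_of_mem _ h)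

lemma natSpan_mono {S T : Set ι} (h : S ⊆ T) : RootD.natSpan P S ≤ RootD.natSpan P T :=
  AddSubmonoid.closure_mono (image_mono h)

lemma natSpan_le {S : Set ι} {T : AddSubmonoid M} (h : ∀ i ∈ S, P.root i ∈ T) :
    RootD.natSpan P S ≤ T := by
  refine AddSubmonoid.closure_le.mpr ?_
  rintro _ ⟨i, hi, rfl⟩
  exact h i hi

lemma natSpan_le_span (S : Set ι) :
    RootD.natSpan P S ≤ (Submodule.span ℤ (P.root '' S)).toAddSubmonoid :=
  AddSubmonoid.closure_le.mpr Submodule.subset_span

lemma mem_natSpan_iff_list {S : Set ι} {x : M} :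
    x ∈ RootD.natSpan P S ↔ ∃ l : List ι, (∀ a ∈ l, a ∈ S) ∧ (l.map P.root).sum = x := by
  constructor
  · intro hx
    induction hx using AddSubmonoid.closure_induction with
    | mem y hy =>
      obtain ⟨i, hi, rfl⟩ := hy
      exact ⟨[i], by simpa using hi, by simp⟩
    | zero => exact ⟨[], by simp, rfl⟩
    | add y z _ _ hy hz =>
      obtain ⟨l, hl, rfl⟩ := hy
      obtain ⟨l', hl', rfl⟩ := hz
      exact ⟨l ++ l', by simp only [List.mem_append]; rintro a (h | h) <;> [exact hl a h; exact hl' a h],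
        by simp⟩
  · rintro ⟨l, hl, rfl⟩
    refine AddSubmonoid.list_sum_mem _ fun y hy => ?_
    obtain ⟨a, ha, rfl⟩ := List.mem_map.mp hy
    exact root_mem_natSpan P (hl a ha)

variable [Finite ι]

omit [Finite ι] in
lemma list_sum_erase {l : List ι} [DecidableEq ι] {a : ι} (ha : a ∈ l) :
    (l.map P.root).sum = P.root a + ((l.erase a).map P.root).sum := by
  rw [(List.perm_cons_erase ha).map P.root |>.sum_eq]
  simp

/-- Induction on roots lying in the monoid spanned by the roots of `S`, adding one root of `S` at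
a time, all partial sums being roots. -/
lemma natSpan_root_induction {S : Set ι} (Q : ι → Prop) (mem : ∀ i ∈ S, Q i)
    (add : ∀ i ∈ S, ∀ j k, Q j → P.root j ∈ RootD.natSpan P S →
      P.root k = P.root j + P.root i → Q k)
    {k : ι} (hk : P.root k ∈ RootD.natSpan P S) : Q k := by
  classical
  obtain ⟨l, hl, hsum⟩ := (mem_natSpan_iff_list P).mp hk
  clear hk
  induction hn : l.length using Nat.strong_induction_on generalizing l k with
  | _ n ih =>
    obtain ⟨a, ha, hpos⟩ := exists_pairing_pos_of_sum P hsum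
    by_cases hak : a = k
    · exact hak ▸ mem a (hl a ha)
    obtain ⟨j, hj⟩ := sub_mem P (pairing_pos_symm P hpos) (Ne.symm hak)
    have hsum' : ((l.erase a).map P.root).sum = P.root j := by
      rw [hj, ← hsum, list_sum_erase P ha]
      abel
    have hlt : (l.erase a).length < n := by
      rw [List.length_erase_of_mem ha, ← hn]
      have := List.length_pos_of_mem ha
      omega
    refine add a (hl a ha) j k (ih _ hlt (l.erase a) (fun b hb => hl b (List.mem_of_mem_erase hb))
      hsum' rfl) ?_ (by rw [hj]; abel)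
    exact (mem_natSpan_iff_list P).mpr ⟨_, fun b hb => hl b (List.mem_of_mem_erase hb), hsum'⟩

/-- A closed set of roots contains every root in the monoid it generates. -/
lemma closed_natSpan {S : Set ι} (hS : RootD.IsClosedSub P S) {k : ι}
    (hk : P.root k ∈ RootD.natSpan P S) : k ∈ S :=
  natSpan_root_induction P (· ∈ S) (fun _ h => h) (fun _ hi _ _ hj _ h => hS hj hi h) hk

lemma isClosedSub_iff_natSpan (S : Set ι) :
    RootD.IsClosedSub P S ↔ ∀ k : ι, P.root k ∈ RootD.natSpan P S → k ∈ S := by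
  refine ⟨fun h k hk => closed_natSpan P h hk, fun h i j k hi hj hk => h k ?_⟩
  rw [hk]
  exact add_mem_natSpan hi hj
where
  add_mem_natSpan {i j : ι} (hi : i ∈ S) (hj : j ∈ S) :
      P.root i + P.root j ∈ RootD.natSpan P S :=
    (RootD.natSpan P S).add_mem (root_mem_natSpan P hi) (root_mem_natSpan P hj)

/-- Half systems: no opposite pair, closed, and differences are decided.  Examples: positive systems,
and their traces on closed symmetric subsets. -/
structure IsHalf (S : Set ι) : Prop where
  disjoint : ∀ ⦃i : ι⦄, i ∈ S → opp P i ∉ S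
  closed : RootD.IsClosedSub P S
  diff : ∀ ⦃i j k : ι⦄, i ∈ S → j ∈ S → P.root k = P.root i - P.root j → k ∈ S ∨ opp P k ∈ S

omit [Finite ι] in
lemma isClosed_of_isPosSys {S : Set ι} (hS : RootD.IsPosSys P S) : RootD.IsClosedSub P S := by
  intro i j k hi hj hk
  refine hS.sat 1 one_pos ?_
  rw [one_nsmul, hk]
  exact (RootD.natSpan P S).add_mem (root_mem_natSpan P hi) (root_mem_natSpan P hj)

omit [Finite ι] in
lemma isHalf_of_isPosSys {S : Set ι} (hS : RootD.IsPosSys P S) : IsHalf P S :=
  ⟨hS.disjoint, isClosed_of_isPosSys P hS, fun _ _ k _ _ _ => hS.cover k⟩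

/-- No nonempty sum of roots of a closed set without opposite pairs vanishes. -/
lemma eq_nil_of_sum_eq_zero {S : Set ι} (hdis : ∀ ⦃i : ι⦄, i ∈ S → opp P i ∉ S)
    (hcl : RootD.IsClosedSub P S) {l : List ι} (hl : ∀ a ∈ l, a ∈ S)
    (h0 : (l.map P.root).sum = 0) : l = [] := by
  classical
  induction hn : l.length using Nat.strong_induction_on generalizing l with
  | _ n ih =>
    rcases l with _ | ⟨a, l⟩
    · rfl
    exfalso
    rw [List.map_cons, List.sum_cons] at h0
    have hneg : (l.map P.root).sum = P.root (opp P a) := by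
      rw [root_opp]; exact (neg_eq_of_add_eq_zero_right h0).symm
    obtain ⟨b, hb, hpos⟩ := exists_pairing_pos_of_sum P hneg
    rw [pairing_opp_right] at hpos
    have hba : P.root b ≠ -P.root a := by
      intro h
      exact hdis (hl a (by simp)) ((eq_opp_iff P).mpr h ▸ hl b (by simp [hb]))
    obtain ⟨c, hc⟩ := add_mem P (i := b) (j := a) (by omega) hba
    have hcS : c ∈ S := hcl (hl b (by simp [hb])) (hl a (by simp)) hc
    have hlt : (c :: l.erase b).length < n := by
      rw [← hn, List.length_cons, List.length_cons, List.length_erase_of_mem hb]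
      have := List.length_pos_of_mem hb
      omega
    have hsum : ((c :: l.erase b).map P.root).sum = 0 := by
      rw [List.map_cons, List.sum_cons, hc, ← h0, list_sum_erase P hb]
      abel
    have := ih _ hlt (l := c :: l.erase b) (by
      simp only [List.mem_cons, forall_eq_or_imp]
      exact ⟨hcS, fun d hd => hl d (by simp [List.mem_of_mem_erase hd])⟩) hsum rfl
    simp at this

lemma natSpan_pointed {S : Set ι} (hdis : ∀ ⦃i : ι⦄, i ∈ S → opp P i ∉ S)
    (hcl : RootD.IsClosedSub P S) {x : M} (h : x ∈ RootD.natSpan P S)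
    (h' : -x ∈ RootD.natSpan P S) : x = 0 := by
  obtain ⟨l, hl, rfl⟩ := (mem_natSpan_iff_list P).mp h
  obtain ⟨l', hl', hs⟩ := (mem_natSpan_iff_list P).mp h'
  have := eq_nil_of_sum_eq_zero P hdis hcl (l := l ++ l')
    (by simp only [List.mem_append]; rintro a (h | h) <;> [exact hl a h; exact hl' a h])
    (by simp [hs])
  simp [(List.append_eq_nil_iff.mp this).1]

/-- (P 1), (P 2) and closedness make a positive system. -/
lemma isPosSys_of_closed {S : Set ι} (h1 : ∀ i ∈ S, opp P i ∉ S)
    (h2 : ∀ i : ι, i ∈ S ∨ opp P i ∈ S) (h3 : RootD.IsClosedSub P S) : RootD.IsPosSys P S := by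
  refine ⟨h1, h2, fun k n hn hk => (h2 k).resolve_right fun hk' => ?_⟩
  have hk'' : -(n • P.root k) ∈ RootD.natSpan P S := by
    rw [← smul_neg, ← root_opp]
    exact (RootD.natSpan P S).nsmul_mem (root_mem_natSpan P hk') n
  have := natSpan_pointed P h1 h3 hk hk''
  rw [← natCast_zsmul] at this
  exact P.ne_zero k (eq_zero_of_smul P (by exact_mod_cast hn.ne') this)

lemma isPosSys_iff_closed (S : Set ι) : RootD.IsPosSys P S ↔
    ((∀ i ∈ S, P.reflectionPerm i i ∉ S) ∧ (∀ i : ι, i ∈ S ∨ P.reflectionPerm i i ∈ S) ∧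
      RootD.IsClosedSub P S) :=
  ⟨fun h => ⟨fun _ hi => h.disjoint hi, h.cover, isClosed_of_isPosSys P h⟩,
    fun h => isPosSys_of_closed P h.1 h.2.1 h.2.2⟩

/-- The indecomposable elements of a set of roots. -/
def simpleOf (S : Set ι) : Set ι :=
  {i | i ∈ S ∧ ∀ j ∈ S, ∀ k ∈ S, P.root i ≠ P.root j + P.root k}

omit [Finite ι] in
lemma simpleOf_subset (S : Set ι) : simpleOf P S ⊆ S := fun _ h => h.1

lemma mem_natSpan_simpleOf {S : Set ι} (hS : IsHalf P S) {i : ι} (hi : i ∈ S) :
    P.root i ∈ RootD.natSpan P (simpleOf P S) := by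
  let lower : ι → Set ι := fun a => {b | b ∈ S ∧ P.root a - P.root b ∈ RootD.natSpan P S}
  have hdec : ∀ a b c, b ∈ S → c ∈ S → P.root a = P.root b + P.root c → a ∈ S →
      (lower b).ncard < (lower a).ncard := by
    intro a b c hb hc habc ha
    refine ncard_lt_ncard ⟨fun d hd => ⟨hd.1, ?_⟩, fun hsub => ?_⟩ (toFinite _)
    · rw [show P.root a - P.root d = (P.root b - P.root d) + P.root c by rw [habc]; abel]
      exact (RootD.natSpan P S).add_mem hd.2 (root_mem_natSpan P hc)
    · have haa : a ∈ lower a := ⟨ha, by rw [sub_self]; exact zero_mem _⟩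
      have hneg : P.root b - P.root a ∈ RootD.natSpan P S := (hsub haa).2
      rw [habc, sub_add_cancel_left] at hneg
      exact P.ne_zero c (natSpan_pointed P hS.disjoint hS.closed (root_mem_natSpan P hc) hneg)
  induction hn : (lower i).ncard using Nat.strong_induction_on generalizing i with
  | _ n ih =>
    by_cases h : i ∈ simpleOf P S
    · exact root_mem_natSpan P h
    simp only [simpleOf, mem_ofPred_eq, not_and, not_forall, ne_eq, not_not] at h
    obtain ⟨j, hj, k, hk, hijk⟩ := h hi
    rw [hijk]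
    exact (RootD.natSpan P (simpleOf P S)).add_mem
      (ih _ (hn ▸ hdec i j k hj hk hijk hi) hj rfl)
      (ih _ (hn ▸ hdec i k j hk hj (hijk.trans (add_comm _ _)) hi) hk rfl)

lemma pairing_simpleOf_nonpos {S : Set ι} (hS : IsHalf P S) {i j : ι} (hi : i ∈ simpleOf P S)
    (hj : j ∈ simpleOf P S) (hij : i ≠ j) : P.pairing i j ≤ 0 := by
  by_contra! h
  obtain ⟨k, hk⟩ := sub_mem P h hij
  rcases hS.diff hi.1 hj.1 hk with hkS | hkS
  · exact hi.2 j hj.1 k hkS (by rw [hk]; abel)
  · exact hj.2 i hi.1 _ hkS (by rw [root_opp, hk]; abel)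

/-- A family with pairwise non-positive pairings and a pointed monoid is linearly independent. -/
lemma linearIndepOn_of_nonpos {T : Set ι}
    (hpair : ∀ i ∈ T, ∀ j ∈ T, i ≠ j → P.pairing i j ≤ 0)
    (hzero : ∀ c : ι →₀ ℤ, ↑c.support ⊆ T → (∀ i, 0 ≤ c i) →
      Finsupp.linearCombination ℤ P.root c = 0 → c = 0) :
    LinearIndepOn ℤ P.root T := by
  classical
  rw [linearIndepOn_iff]
  intro c hc h0
  rw [Finsupp.mem_supported] at hc
  let p := c.filter fun i => 0 < c i
  let q := -(c.filter fun i => ¬ 0 < c i)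
  have hcpq : c = p - q := by
    simp only [p, q, sub_neg_eq_add]
    exact (Finsupp.filter_add_filter_not c _).symm
  have hp : ∀ i, 0 ≤ p i := fun i => by
    simp only [p, Finsupp.filter_apply]; split <;> omega
  have hq : ∀ i, 0 ≤ q i := fun i => by
    simp only [q, Finsupp.neg_apply, Finsupp.filter_apply]; split <;> omega
  have hps : ↑p.support ⊆ T := fun i hi => hc (by
    simp only [p, Finsupp.support_filter, Finset.coe_filter, mem_ofPred_eq] at hi
    exact hi.1)
  have hqs : ↑q.support ⊆ T := fun i hi => hc (by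
    simp only [q, Finsupp.support_neg, Finsupp.support_filter, Finset.coe_filter, mem_ofPred_eq] at hi
    exact hi.1)
  have heq : Finsupp.linearCombination ℤ P.root p = Finsupp.linearCombination ℤ P.root q := by
    rw [hcpq, map_sub, sub_eq_zero] at h0
    exact h0
  set x := Finsupp.linearCombination ℤ P.root p with hx
  have hxx : B P x x ≤ 0 := by
    nth_rw 2 [heq]
    simp only [hx, Finsupp.linearCombination_apply, Finsupp.sum, map_sum, LinearMap.sum_apply,
      map_smul, LinearMap.smul_apply, smul_eq_mul, Finset.mul_sum]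
    refine Finset.sum_nonpos fun i hi => Finset.sum_nonpos fun j hj => ?_
    by_cases hij : i = j
    · subst hij
      simp only [p, q, Finsupp.support_neg, Finsupp.support_filter, Finset.mem_filter] at hi hj
      exact absurd hj.2 hi.2
    · have hle := (B_root_nonpos_iff P j i).mpr (hpair j (hps hj) i (hqs hi) (Ne.symm hij))
      exact mul_nonpos_of_nonneg_of_nonpos (hq i) (mul_nonpos_of_nonneg_of_nonpos (hp j) hle)
  have hxspan : x ∈ Submodule.span ℤ (range P.root) :=
    span_image_le P T ((Finsupp.mem_span_image_iff_linearCombination ℤ).mpr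
      ⟨p, (Finsupp.mem_supported ℤ p).mpr hps, rfl⟩)
  have hx0 : x = 0 := B_self_eq_zero P hxspan (le_antisymm hxx (B_nonneg P x))
  rw [hcpq, hzero p hps hp hx0, hzero q hqs hq (heq ▸ hx0), sub_zero]

omit [Finite ι] in
/-- Non-negative integer combinations. -/
lemma mem_natSpan_iff_coeff {S : Set ι} {x : M} :
    x ∈ RootD.natSpan P S ↔ ∃ c : ι →₀ ℤ, ↑c.support ⊆ S ∧ (∀ i, 0 ≤ c i) ∧
      Finsupp.linearCombination ℤ P.root c = x := by
  classical
  constructor
  · intro hx
    induction hx using AddSubmonoid.closure_induction with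
    | mem y hy =>
      obtain ⟨i, hi, rfl⟩ := hy
      refine ⟨Finsupp.single i 1, ?_, fun j => ?_, by simp⟩
      · intro j hj
        have := Finsupp.support_single_subset hj
        simp only [Finset.mem_singleton] at this
        exact this ▸ hi
      · rw [Finsupp.single_apply]; split <;> omega
    | zero => exact ⟨0, by simp, by simp, by simp⟩
    | add y z _ _ hy hz =>
      obtain ⟨c, hc, hc0, rfl⟩ := hy
      obtain ⟨d, hd, hd0, rfl⟩ := hz
      refine ⟨c + d, fun j hj => ?_, fun j => ?_, by simp⟩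
      · rcases Finset.mem_union.mp (Finsupp.support_add hj) with h | h
        · exact hc h
        · exact hd h
      · have := hc0 j; have := hd0 j; simp only [Finsupp.add_apply]; omega
  · rintro ⟨c, hc, hc0, rfl⟩
    rw [Finsupp.linearCombination_apply, Finsupp.sum]
    refine AddSubmonoid.sum_mem _ fun i hi => ?_
    rw [← Int.toNat_of_nonneg (hc0 i), natCast_zsmul]
    exact (RootD.natSpan P S).nsmul_mem (root_mem_natSpan P (hc hi)) _

lemma linearIndepOn_simpleOf {S : Set ι} (hS : IsHalf P S) :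
    LinearIndepOn ℤ P.root (simpleOf P S) := by
  refine linearIndepOn_of_nonpos P (fun i hi j hj h => pairing_simpleOf_nonpos P hS hi hj h)
    fun c hc hc0 h0 => ?_
  by_contra hne
  obtain ⟨i, hi⟩ := Finsupp.support_nonempty_iff.mpr hne
  have hci : 0 < c i := (hc0 i).lt_of_ne (Finsupp.mem_support_iff.mp hi).symm
  classical
  have hmem : -P.root i ∈ RootD.natSpan P (simpleOf P S) := by
    refine (mem_natSpan_iff_coeff P).mpr ⟨c - Finsupp.single i 1, ?_, fun j => ?_, by simp [h0]⟩
    · intro j hj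
      rcases Finset.mem_union.mp (Finsupp.support_sub hj) with h | h
      · exact hc h
      · have := Finsupp.support_single_subset h
        simp only [Finset.mem_singleton] at this
        exact this ▸ hc hi
    · have := hc0 j
      simp only [Finsupp.sub_apply, Finsupp.single_apply]
      split
      · subst_vars; omega
      · omega
  exact P.ne_zero i (natSpan_pointed P hS.disjoint hS.closed
    (root_mem_natSpan P (hc hi).1) (natSpan_mono P (simpleOf_subset P S) hmem))

lemma natSpan_simpleOf {S : Set ι} (hS : IsHalf P S) :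
    RootD.natSpan P (simpleOf P S) = RootD.natSpan P S :=
  le_antisymm (natSpan_mono P (simpleOf_subset P S))
    (natSpan_le P fun _ hi => mem_natSpan_simpleOf P hS hi)

lemma isSimpleSys_simpleOf {S : Set ι} (hS : RootD.IsPosSys P S) :
    RootD.IsSimpleSys P (simpleOf P S) where
  linInd := linearIndepOn_simpleOf P (isHalf_of_isPosSys P hS)
  mem_or_neg_mem i := by
    rcases hS.cover i with h | h
    · exact .inl (mem_natSpan_simpleOf P (isHalf_of_isPosSys P hS) h)
    · exact .inr (root_opp P i ▸ mem_natSpan_simpleOf P (isHalf_of_isPosSys P hS) h)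

lemma exists_isPosSys : ∃ S : Set ι, RootD.IsPosSys P S := by
  classical
  let := Fintype.ofFinite ι
  let e := Fintype.equivFin ι
  let q : ι → Polynomial ℤ := fun k => ∑ j, Polynomial.monomial (e j : ℕ) (P.pairing k j)
  have hq : ∀ k, q k ≠ 0 := by
    intro k h
    have := congrArg (fun r => Polynomial.coeff r (e k : ℕ)) h
    simp [q, Polynomial.coeff_monomial, Fin.val_inj] at this
  obtain ⟨t, ht⟩ := Infinite.exists_notMem_finset
    (Finset.univ.biUnion fun k => (q k).roots.toFinset)
  let f : M →ₗ[ℤ] ℤ := ∑ j, t ^ (e j : ℕ) • P.coroot' j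
  have hf : ∀ k, f (P.root k) ≠ 0 := by
    intro k h
    apply ht
    refine Finset.mem_biUnion.mpr ⟨k, Finset.mem_univ k, ?_⟩
    rw [Multiset.mem_toFinset, Polynomial.mem_roots (hq k), Polynomial.IsRoot]
    rw [← h]
    simp [q, f, Polynomial.eval_finsetSum, mul_comm]
  refine ⟨{i | 0 < f (P.root i)}, isPosSys_of_closed P (fun i hi hi' => ?_) (fun i => ?_) ?_⟩
  · simp only [mem_ofPred_eq, root_opp, map_neg] at hi hi'
    omega
  · have := hf i
    simp only [mem_ofPred_eq, root_opp, map_neg]
    omega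
  · intro i j k hi hj hk
    simp only [mem_ofPred_eq, hk, map_add] at hi hj ⊢
    omega

lemma exists_isSimpleSys : ∃ Δ : Set ι, RootD.IsSimpleSys P Δ :=
  (exists_isPosSys P).elim fun _ hS => ⟨_, isSimpleSys_simpleOf P hS⟩

section Simple

variable {P} {Δ : Set ι}

omit [Finite ι] in
lemma comb_inj (hli : LinearIndepOn ℤ P.root Δ) {c d : ι →₀ ℤ} (hc : ↑c.support ⊆ Δ)
    (hd : ↑d.support ⊆ Δ)
    (h : Finsupp.linearCombination ℤ P.root c = Finsupp.linearCombination ℤ P.root d) : c = d :=
  sub_eq_zero.mp <| linearIndepOn_iff.mp hli (c - d)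
    ((Finsupp.supported ℤ ℤ Δ).sub_mem ((Finsupp.mem_supported ℤ c).mpr hc)
      ((Finsupp.mem_supported ℤ d).mpr hd))
    (by rw [map_sub, h, sub_self])

omit [Finite ι] in
lemma natSpan_pointed' (hli : LinearIndepOn ℤ P.root Δ) {x : M} (h : x ∈ RootD.natSpan P Δ)
    (h' : -x ∈ RootD.natSpan P Δ) : x = 0 := by
  obtain ⟨c, hc, hc0, rfl⟩ := (mem_natSpan_iff_coeff P).mp h
  obtain ⟨d, hd, hd0, hdx⟩ := (mem_natSpan_iff_coeff P).mp h'
  have : c = -d := comb_inj hli hc (by rwa [Finsupp.support_neg]) (by rw [map_neg, hdx, neg_neg])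
  have : c = 0 := Finsupp.ext fun i => by
    have h1 := hc0 i; have h2 := hd0 i
    have h3 : c i = -d i := by rw [this]; rfl
    simp only [Finsupp.zero_apply]; omega
  simp [this]

variable (hΔ : RootD.IsSimpleSys P Δ)

omit [Finite ι] in
include hΔ in
lemma exists_coeff (k : ι) : ∃ c : ι →₀ ℤ, ↑c.support ⊆ Δ ∧
    ((∀ i, 0 ≤ c i) ∨ (∀ i, c i ≤ 0)) ∧ Finsupp.linearCombination ℤ P.root c = P.root k := by
  rcases hΔ.mem_or_neg_mem k with h | h
  · obtain ⟨c, hc, hc0, hck⟩ := (mem_natSpan_iff_coeff P).mp h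
    exact ⟨c, hc, .inl hc0, hck⟩
  · obtain ⟨c, hc, hc0, hck⟩ := (mem_natSpan_iff_coeff P).mp h
    exact ⟨-c, by rwa [Finsupp.support_neg], .inr fun i => by have := hc0 i; simp only [Finsupp.neg_apply]; omega,
      by rw [map_neg, hck, neg_neg]⟩

/-- The coordinates of a root on a system of simple roots. -/
def coeff (k : ι) : ι →₀ ℤ := (exists_coeff hΔ k).choose

lemma coeff_support (k : ι) : ↑(coeff hΔ k).support ⊆ Δ := (exists_coeff hΔ k).choose_spec.1

lemma coeff_sign (k : ι) : (∀ i, 0 ≤ coeff hΔ k i) ∨ (∀ i, coeff hΔ k i ≤ 0) :=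
  (exists_coeff hΔ k).choose_spec.2.1

lemma coeff_spec (k : ι) : Finsupp.linearCombination ℤ P.root (coeff hΔ k) = P.root k :=
  (exists_coeff hΔ k).choose_spec.2.2

lemma coeff_unique {k : ι} {c : ι →₀ ℤ} (hc : ↑c.support ⊆ Δ)
    (h : Finsupp.linearCombination ℤ P.root c = P.root k) : coeff hΔ k = c :=
  comb_inj hΔ.linInd (coeff_support hΔ k) hc ((coeff_spec hΔ k).trans h.symm)

lemma coeff_eq_zero {k i : ι} (hi : i ∉ Δ) : coeff hΔ k i = 0 :=
  Finsupp.notMem_support_iff.mp fun h => hi (coeff_support hΔ k h)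

lemma coeff_simple {i : ι} (hi : i ∈ Δ) : coeff hΔ i = Finsupp.single i 1 :=
  coeff_unique hΔ (fun j hj => by
    have := Finsupp.support_single_subset hj
    simp only [Finset.mem_singleton] at this
    exact this ▸ hi) (by simp)

lemma coeff_opp (k : ι) : coeff hΔ (opp P k) = -coeff hΔ k :=
  coeff_unique hΔ (by rw [Finsupp.support_neg]; exact coeff_support hΔ k)
    (by rw [map_neg, coeff_spec, root_opp])

lemma coeff_add {i j k : ι} (h : P.root k = P.root i + P.root j) :
    coeff hΔ k = coeff hΔ i + coeff hΔ j := by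
  classical
  refine coeff_unique hΔ (fun a ha => ?_) (by rw [map_add, coeff_spec, coeff_spec, h])
  rcases Finset.mem_union.mp (Finsupp.support_add ha) with h' | h'
  · exact coeff_support hΔ i h'
  · exact coeff_support hΔ j h'

lemma coeff_ne_zero (k : ι) : coeff hΔ k ≠ 0 := fun h =>
  P.ne_zero k (by rw [← coeff_spec hΔ k, h, map_zero])

include hΔ in
lemma mem_posOf_iff (k : ι) : k ∈ RootD.posOf P Δ ↔ ∀ i, 0 ≤ coeff hΔ k i := by
  constructor
  · intro h
    obtain ⟨c, hc, hc0, hck⟩ := (mem_natSpan_iff_coeff P).mp h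
    rw [coeff_unique hΔ hc hck]
    exact hc0
  · exact fun h => (mem_natSpan_iff_coeff P).mpr ⟨_, coeff_support hΔ k, h, coeff_spec hΔ k⟩

lemma mem_posOf_of_coeff_pos {k i : ι} (h : 0 < coeff hΔ k i) : k ∈ RootD.posOf P Δ :=
  (mem_posOf_iff hΔ k).mpr <| (coeff_sign hΔ k).resolve_right fun h' => by have := h' i; omega

omit [Finite ι] in
include hΔ in
lemma mem_posOf_or (k : ι) : k ∈ RootD.posOf P Δ ∨ opp P k ∈ RootD.posOf P Δ := by
  rcases hΔ.mem_or_neg_mem k with h | h
  · exact .inl h
  · exact .inr (show P.root (opp P k) ∈ _ by rwa [root_opp])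

include hΔ in
lemma not_posOf_opp {k : ι} (h : k ∈ RootD.posOf P Δ) : opp P k ∉ RootD.posOf P Δ := fun h' =>
  P.ne_zero k (natSpan_pointed' hΔ.linInd h
    (by have h'' : P.root (opp P k) ∈ RootD.natSpan P Δ := h'; rwa [root_opp] at h''))

include hΔ in
lemma isPosSys_posOf : RootD.IsPosSys P (RootD.posOf P Δ) := by
  refine isPosSys_of_closed P (fun i hi => not_posOf_opp hΔ hi) (mem_posOf_or hΔ) ?_
  intro i j k hi hj hk
  show P.root k ∈ RootD.natSpan P Δ
  rw [hk]
  exact (RootD.natSpan P Δ).add_mem hi hj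

omit [Finite ι] in
lemma subset_posOf : Δ ⊆ RootD.posOf P Δ := fun _ hi => root_mem_natSpan P hi

omit [Finite ι] in
include hΔ in
lemma posSys_eq_posOf {S : Set ι} (hS : RootD.IsPosSys P S) (h : Δ ⊆ S) :
    S = RootD.posOf P Δ := by
  have hsub : RootD.posOf P Δ ⊆ S := fun k hk =>
    hS.sat 1 one_pos (by rw [one_nsmul]; exact natSpan_mono P h hk)
  exact subset_antisymm (fun k hk => (mem_posOf_or hΔ k).resolve_right
    fun hk' => hS.disjoint hk (hsub hk')) hsub

include hΔ in
lemma eq_simpleOf {S : Set ι} (hS : RootD.IsPosSys P S) (h : Δ ⊆ S) : Δ = simpleOf P S := by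
  have hSeq := posSys_eq_posOf hΔ hS h
  have hsub : Δ ⊆ simpleOf P S := by
    intro i hi
    refine ⟨h hi, fun j hj k hk hijk => ?_⟩
    rw [hSeq] at hj hk
    have hj' := (mem_posOf_iff hΔ j).mp hj
    have hk' := (mem_posOf_iff hΔ k).mp hk
    have hsum := coeff_add hΔ hijk
    rw [coeff_simple hΔ hi] at hsum
    have hne : ∀ a ≠ i, coeff hΔ j a = 0 ∧ coeff hΔ k a = 0 := fun a ha => by
      have := congrArg (fun c : ι →₀ ℤ => c a) hsum
      simp only [Finsupp.add_apply, Finsupp.single_eq_of_ne ha] at this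
      have := hj' a; have := hk' a
      omega
    have hi1 : 1 = coeff hΔ j i + coeff hΔ k i := by simpa using congrArg (fun c : ι →₀ ℤ => c i) hsum
    rcases (show coeff hΔ j i = 0 ∨ coeff hΔ k i = 0 by have := hj' i; have := hk' i; omega) with
      h0 | h0
    · exact coeff_ne_zero hΔ j (Finsupp.ext fun a => by
        by_cases ha : a = i
        · rw [ha]; exact h0
        · exact (hne a ha).1)
    · exact coeff_ne_zero hΔ k (Finsupp.ext fun a => by
        by_cases ha : a = i
        · rw [ha]; exact h0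
        · exact (hne a ha).2)
  refine subset_antisymm hsub fun i hi => ?_
  by_contra hiΔ
  have hmem : P.root i ∈ RootD.natSpan P Δ := by
    have : i ∈ RootD.posOf P Δ := hSeq ▸ hi.1
    exact this
  have := natSpan_le_span P Δ hmem
  exact (linearIndepOn_simpleOf P (isHalf_of_isPosSys P hS)).notMem_span hi
    (Submodule.span_mono (image_mono (subset_sdiff_singleton hsub hiΔ)) this)

lemma mem_inSpan_iff {Δ' : Set ι} (hsub : Δ' ⊆ Δ) (k : ι) :
    k ∈ RootD.inSpan P Δ' ↔ ↑(coeff hΔ k).support ⊆ Δ' := by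
  constructor
  · intro h
    obtain ⟨c, hc, hck⟩ := (Finsupp.mem_span_image_iff_linearCombination ℤ).mp h
    rw [Finsupp.mem_supported] at hc
    rw [coeff_unique hΔ (hc.trans hsub) hck]
    exact hc
  · exact fun h => (Finsupp.mem_span_image_iff_linearCombination ℤ).mpr
      ⟨_, (Finsupp.mem_supported ℤ _).mpr h, coeff_spec hΔ k⟩

/-- The order (height) of a root along a system of simple roots. -/
def height (k : ι) : ℤ := (coeff hΔ k).sum fun _ a => a

lemma height_add {i j k : ι} (h : P.root k = P.root i + P.root j) :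
    height hΔ k = height hΔ i + height hΔ j := by
  rw [height, coeff_add hΔ h, Finsupp.sum_add_index' (fun _ => rfl) (fun _ _ _ => rfl)]
  rfl

lemma height_simple {i : ι} (hi : i ∈ Δ) : height hΔ i = 1 := by
  rw [height, coeff_simple hΔ hi]
  simp

lemma height_pos {k : ι} (hk : k ∈ RootD.posOf P Δ) : 0 < height hΔ k := by
  have h := (mem_posOf_iff hΔ k).mp hk
  obtain ⟨i, hi⟩ := Finsupp.support_nonempty_iff.mpr (coeff_ne_zero hΔ k)
  exact Finset.sum_pos' (fun j _ => h j)
    ⟨i, hi, (h i).lt_of_ne (Finsupp.mem_support_iff.mp hi).symm⟩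

/-- Induction on positive roots, adding a simple root at a time. -/
lemma posOf_induction (Q : ι → Prop) (simple : ∀ i ∈ Δ, Q i)
    (add : ∀ i ∈ Δ, ∀ j k, Q j → j ∈ RootD.posOf P Δ → P.root k = P.root j + P.root i → Q k)
    {k : ι} (hk : k ∈ RootD.posOf P Δ) : Q k :=
  natSpan_root_induction P Q simple (fun i hi j k hQ hj h => add i hi j k hQ hj h) hk

end Simple

end Groth.Agent.RootDat
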