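import Groth.Agent.RootDat.Lengths

/-!
# Radical and coradical of a root datum, semisimple and adjoint root data
-/

set_option autoImplicit false
set_option linter.unusedSectionVars false

open Set Function
open Module hiding reflection

noncomputable section

namespace Groth.Agent.RootDat

variable {ι M N : Type*} [AddCommGroup M] [AddCommGroup N] (P : RootPairing ι ℤ M N)

include P in
lemma free_left [Module.Finite ℤ M] : Module.Free ℤ M := by
  have := torsionFree_left P
  infer_instance

include P in
lemma free_right [Module.Finite ℤ N] : Module.Free ℤ N := by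
  have := torsionFree_right P
  infer_instance

/-- The weights killed by all coroots. -/
def corad : Submodule ℤ M := ⨅ i : ι, LinearMap.ker (P.coroot' i)

lemma mem_corad {x : M} : x ∈ corad P ↔ ∀ i, P.coroot' i x = 0 := by
  simp only [corad, Submodule.mem_iInf, LinearMap.mem_ker]

variable [Finite ι]

lemma disjoint_span_corad : Disjoint (Submodule.span ℤ (range P.root)) (corad P) := by
  rw [Submodule.disjoint_def]
  exact fun x hx hx' => eq_zero_of_coroot' P hx ((mem_corad P).mp hx')

lemma finrank_corad_add [Module.Finite ℤ M] :
    finrank ℤ (corad P) + finrank ℤ (Submodule.span ℤ (range P.root)) = finrank ℤ M := by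
  have := free_left P
  let := Fintype.ofFinite ι
  let T : M →ₗ[ℤ] M := ∑ i, (P.coroot' i).smulRight (P.root i)
  have hT : ∀ x, T x = ∑ i, P.coroot' i x • P.root i := fun x => by
    simp [T, LinearMap.sum_apply]
  have hker : LinearMap.ker T = corad P := by
    ext x
    rw [LinearMap.mem_ker, mem_corad]
    refine ⟨fun h => ?_, fun h => by rw [hT]; exact Finset.sum_eq_zero fun i _ => by rw [h i, zero_smul]⟩
    have hB : (∑ i, P.coroot' i x * P.coroot' i x * len P i) = 0 := by
      have h2 : 2 * B P x (T x) = 0 := by rw [h, map_zero, mul_zero]
      rw [hT, map_sum, Finset.mul_sum] at h2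
      rw [← h2]
      refine Finset.sum_congr rfl fun i _ => ?_
      rw [map_smul, smul_eq_mul, mul_left_comm, two_B, len]
      ring
    intro i
    have := (Finset.sum_eq_zero_iff_of_nonneg fun i _ =>
      mul_nonneg (mul_self_nonneg _) (len_pos P i).le).mp hB i (Finset.mem_univ i)
    exact mul_self_eq_zero.mp ((mul_eq_zero.mp this).resolve_right (len_pos P i).ne')
  have hrange : LinearMap.range T ≤ Submodule.span ℤ (range P.root) := by
    rintro _ ⟨x, rfl⟩
    rw [hT]
    exact Submodule.sum_mem _ fun i _ => Submodule.smul_mem _ _ (root_mem_span P i)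
  have h1 := Submodule.finrank_quotient_add_finrank (LinearMap.ker T)
  rw [(LinearMap.quotKerEquivRange T).finrank_eq] at h1
  rw [hker] at h1
  have h2 := Submodule.finrank_mono hrange
  have hinj : Injective ((Submodule.span ℤ (range P.root)).subtype.coprod (corad P).subtype) := by
    refine (injective_iff_map_eq_zero _).mpr fun p hp => ?_
    rw [LinearMap.coprod_apply, Submodule.subtype_apply, Submodule.subtype_apply] at hp
    have h1 : (p.1 : M) = 0 := Submodule.disjoint_def.mp (disjoint_span_corad P) _ p.1.2
      (by rw [eq_neg_of_add_eq_zero_left hp]; exact Submodule.neg_mem _ p.2.2)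
    rw [h1, zero_add] at hp
    exact Prod.ext (Subtype.ext h1) (Subtype.ext hp)
  have h3 := LinearMap.finrank_le_finrank_of_injective hinj
  rw [Module.finrank_prod] at h3
  omega

lemma finrank_coroot_span :
    finrank ℤ (Submodule.span ℤ (range P.coroot)) = finrank ℤ (Submodule.span ℤ (range P.root)) :=
  let _ := Fintype.ofFinite ι
  P.finrank_corootSpan_eq'

include P in
omit [Finite ι] in
lemma finrank_eq [Module.Finite ℤ M] [Module.Finite ℤ N] : finrank ℤ N = finrank ℤ M := by
  have := free_left P
  have := free_right P
  rw [P.toPerfPair.finrank_eq, Module.finrank_linearMap_self]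

lemma finrank_rad_add [Module.Finite ℤ M] [Module.Finite ℤ N] :
    finrank ℤ (corad P.flip) + finrank ℤ (Submodule.span ℤ (range P.root)) = finrank ℤ M := by
  rw [← finrank_coroot_span, ← finrank_eq P]
  exact finrank_corad_add P.flip

/-- A root datum is semisimple when the roots have full rank. -/
lemma corad_eq_bot [Module.Finite ℤ M]
    (h : finrank ℤ (Submodule.span ℤ (range P.root)) = finrank ℤ M) : corad P = ⊥ := by
  have := free_left P
  have h' := finrank_corad_add P
  exact Submodule.finrank_eq_zero.mp (by omega)

/-- A submodule containing the roots of a semisimple root datum has finite index. -/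
lemma finite_quotient_of_root_le [Module.Finite ℤ M]
    (h : finrank ℤ (Submodule.span ℤ (range P.root)) = finrank ℤ M) {L : Submodule ℤ M}
    (hL : ∀ i, P.root i ∈ L) : Finite (M ⧸ L) := by
  have := free_left P
  have hle : Submodule.span ℤ (range P.root) ≤ L := Submodule.span_le.mpr (range_subset_iff.mpr hL)
  have h0 : finrank ℤ (M ⧸ L) = 0 := by
    have h1 := Submodule.finrank_quotient_add_finrank L
    have h2 := Submodule.finrank_mono hle
    omega
  have : Module.IsTorsion ℤ (M ⧸ L) := Module.finrank_eq_zero_iff_isTorsion.mp h0
  exact Module.finite_of_fg_torsion _ this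

end Groth.Agent.RootDat
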