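import Groth.Agent.RootDat.PosSys

/-!
# The Weyl group of a root datum over `ℤ`: exchange, generation, transitivity
-/

set_option autoImplicit false
set_option linter.unusedSectionVars false

open Set Function
open Module hiding reflection
open scoped Pointwise

noncomputable section

namespace Groth.Agent.RootDat

variable {ι M N : Type*} [AddCommGroup M] [AddCommGroup N] (P : RootPairing ι ℤ M N)

/-- The reflection as an automorphism of the root datum. -/
abbrev refl (i : ι) : P.Aut := RootPairing.Equiv.reflection P i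

lemma root_smul (g : P.Aut) (i : ι) : P.root (g • i) = g • P.root i :=
  RootPairing.Equiv.root_indexEquiv_eq_smul P i g

lemma refl_smul_index (i k : ι) : refl P i • k = P.reflectionPerm i k := rfl

lemma refl_smul (i : ι) (m : M) : refl P i • m = m - P.coroot' i m • P.root i := by
  rw [RootPairing.Equiv.reflection_smul, P.reflection_apply]

lemma weightHom_eq_smul (g : P.Aut) (m : M) : RootPairing.Equiv.weightHom P g m = g • m := rfl

lemma smul_opp (g : P.Aut) (i : ι) : g • opp P i = opp P (g • i) :=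
  root_inj P (by rw [root_smul, root_opp, smul_neg, root_opp, root_smul])

lemma coroot'_smul (g : P.Aut) (i : ι) (m : M) : P.coroot' (g • i) (g • m) = P.coroot' i m := by
  have h := LinearMap.congr_fun
    (RootPairing.Hom.weight_coweight_transpose_apply P P (P.coroot (g • i)) g.toHom) m
  rw [RootPairing.Hom.coroot_coweightMap_apply] at h
  have hi : g.toHom.indexEquiv.symm (g • i) = i := g.toHom.indexEquiv.symm_apply_apply i
  rw [hi] at h
  exact h

lemma pairing_smul (g : P.Aut) (i j : ι) : P.pairing (g • i) (g • j) = P.pairing i j := by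
  rw [← P.root_coroot'_eq_pairing, root_smul, coroot'_smul, P.root_coroot'_eq_pairing]

lemma aut_ext {g h : P.Aut} (H : ∀ m : M, g • m = h • m) : g = h :=
  RootPairing.Equiv.weightHom_injective P (LinearEquiv.ext H)

lemma refl_mul_self (i : ι) : refl P i * refl P i = 1 :=
  mul_eq_one_iff_inv_eq.mpr (RootPairing.Equiv.reflection_inv P i)

lemma refl_refl (i : ι) (m : M) : refl P i • refl P i • m = m := by
  rw [← mul_smul, refl_mul_self, one_smul]

lemma conj_refl (u : P.Aut) (i : ι) : u * refl P i * u⁻¹ = refl P (u • i) := by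
  refine aut_ext P fun m => ?_
  rw [mul_smul, mul_smul, refl_smul, smul_sub, smul_inv_smul, refl_smul, ← coroot'_smul P u i (u⁻¹ • m),
    smul_inv_smul, root_smul, smul_comm u]

lemma refl_conj (u : P.Aut) (i : ι) : refl P (u • i) * u = u * refl P i := by
  rw [← conj_refl, inv_mul_cancel_right]

lemma isIndiv_smul {i : ι} (g : P.Aut) (h : RootD.IsIndiv P i) : RootD.IsIndiv P (g • i) := by
  intro j hj
  refine h (g⁻¹ • j) ?_
  rw [root_smul, smul_comm (2 : ℤ), hj, root_smul, inv_smul_smul]

lemma smul_mem_natSpan_image (g : P.Aut) {S : Set ι} {x : M} (hx : x ∈ RootD.natSpan P S) :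
    g • x ∈ RootD.natSpan P ((fun i : ι => g • i) '' S) := by
  induction hx using AddSubmonoid.closure_induction with
  | mem y hy =>
    obtain ⟨i, hi, rfl⟩ := hy
    rw [← root_smul]
    exact root_mem_natSpan P ⟨i, hi, rfl⟩
  | zero => rw [smul_zero]; exact zero_mem _
  | add y z _ _ hy hz => rw [smul_add]; exact AddMemClass.add_mem hy hz

/-- Elements of the group generated by reflections in `T` move weights by the span of `T`. -/
lemma smul_sub_mem_span {T : Set ι} {g : P.Aut} (hg : g ∈ Subgroup.closure (refl P '' T)) (m : M) :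
    g • m - m ∈ Submodule.span ℤ (P.root '' T) := by
  induction hg using Subgroup.closure_induction generalizing m with
  | mem x hx =>
    obtain ⟨i, hi, rfl⟩ := hx
    rw [refl_smul, sub_sub_cancel_left]
    exact Submodule.neg_mem _ (Submodule.smul_mem _ _ (Submodule.subset_span ⟨i, hi, rfl⟩))
  | one => rw [one_smul, sub_self]; exact zero_mem _
  | mul x y _ _ hx hy =>
    rw [mul_smul, show x • y • m - m = (x • y • m - y • m) + (y • m - m) by abel]
    exact AddMemClass.add_mem (hx _) (hy _)
  | inv x _ hx =>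
    have := hx (x⁻¹ • m)
    rw [smul_inv_smul] at this
    rw [← neg_sub]
    exact neg_mem this

lemma weylGroup_eq_closure_univ : P.weylGroup = Subgroup.closure (refl P '' univ) := by
  rw [image_univ]; rfl

lemma weylGroup_sub_mem_span {g : P.Aut} (hg : g ∈ P.weylGroup) (m : M) :
    g • m - m ∈ Submodule.span ℤ (range P.root) :=
  span_image_le P univ (smul_sub_mem_span P (weylGroup_eq_closure_univ P ▸ hg) m)

lemma closure_refl_le_weylGroup (T : Set ι) : Subgroup.closure (refl P '' T) ≤ P.weylGroup :=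
  Subgroup.closure_mono (image_subset_range _ _)

lemma word_mem {T : Set ι} {l : List ι} (hl : ∀ a ∈ l, a ∈ T) :
    (l.map (refl P)).prod ∈ Subgroup.closure (refl P '' T) :=
  list_prod_mem fun x hx => by
    obtain ⟨a, ha, rfl⟩ := List.mem_map.mp hx
    exact Subgroup.subset_closure ⟨a, hl a ha, rfl⟩

lemma exists_word {T : Set ι} {g : P.Aut} (hg : g ∈ Subgroup.closure (refl P '' T)) :
    ∃ l : List ι, (∀ a ∈ l, a ∈ T) ∧ (l.map (refl P)).prod = g := by
  induction hg using Subgroup.closure_induction with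
  | mem x hx => obtain ⟨i, hi, rfl⟩ := hx; exact ⟨[i], by simpa using hi, by simp⟩
  | one => exact ⟨[], by simp, rfl⟩
  | mul x y _ _ hx hy =>
    obtain ⟨l, hl, rfl⟩ := hx
    obtain ⟨l', hl', rfl⟩ := hy
    exact ⟨l ++ l', by simp only [List.mem_append]; rintro a (h | h) <;> [exact hl a h; exact hl' a h],
      by simp⟩
  | inv x _ hx =>
    obtain ⟨l, hl, rfl⟩ := hx
    refine ⟨l.reverse, fun a ha => hl a (List.mem_reverse.mp ha), ?_⟩
    rw [List.prod_inv_reverse, List.map_map, ← List.map_reverse]
    congr 1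
    exact List.map_congr_left fun a _ => (RootPairing.Equiv.reflection_inv P a).symm

variable [Finite ι]

/-- An automorphism fixing all roots, trivial modulo the rational span of the roots, is trivial. -/
lemma eq_one_of_fix {g : P.Aut} (hfix : ∀ i : ι, g • i = i)
    (hs : ∀ m : M, ∃ n : ℕ, 0 < n ∧ n • (g • m - m) ∈ Submodule.span ℤ (range P.root)) : g = 1 := by
  refine aut_ext P fun m => ?_
  rw [one_smul]
  obtain ⟨n, hn, hmem⟩ := hs m
  have h0 : n • (g • m - m) = 0 := by
    refine eq_zero_of_coroot' P hmem fun i => ?_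
    have := coroot'_smul P g i m
    rw [hfix] at this
    rw [map_nsmul, map_sub, this, sub_self, smul_zero]
  rw [← natCast_zsmul] at h0
  exact sub_eq_zero.mp (eq_zero_of_smul P (by exact_mod_cast hn.ne') h0)

lemma weyl_eq_one_of_fix {g : P.Aut} (hg : g ∈ P.weylGroup) (hfix : ∀ i : ι, g • i = i) : g = 1 :=
  eq_one_of_fix P hfix fun m => ⟨1, one_pos, by rw [one_nsmul]; exact weylGroup_sub_mem_span P hg m⟩

lemma weylGroupToPerm_injective : Injective P.weylGroupToPerm := by
  refine (injective_iff_map_eq_one _).mpr fun g hg => ?_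
  exact Subtype.ext (weyl_eq_one_of_fix P g.2 fun i => DFunLike.congr_fun hg i)

lemma finite_weylGroup : Finite P.weylGroup :=
  Finite.of_injective _ (weylGroupToPerm_injective P)

lemma B_smul {g : P.Aut} (hg : g ∈ P.weylGroup) (x y : M) : B P (g • x) (g • y) = B P x y := by
  induction hg using RootPairing.weylGroup.induction generalizing x y with
  | mem i => rw [RootPairing.Equiv.reflection_smul, RootPairing.Equiv.reflection_smul, B_reflection]
  | one => rw [one_smul, one_smul]
  | mul u v _ _ hu hv => rw [mul_smul, mul_smul, hu, hv]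

/-- Reflections only depend on the line through the root. -/
lemma refl_eq_of_smul_eq {i j : ι} {a b : ℤ} (hb : b ≠ 0) (h : b • P.root j = a • P.root i) :
    refl P j = refl P i := by
  refine aut_ext P fun x => ?_
  have ha : a ≠ 0 := by
    rintro rfl
    exact P.ne_zero j (eq_zero_of_smul P hb (by rw [h, zero_smul]))
  have hl : b * b * B P (P.root j) (P.root j) = a * a * B P (P.root i) (P.root i) := by
    have := congrArg (fun z => B P z z) h
    simpa [mul_assoc] using this
  have hc : b * B P x (P.root j) = a * B P x (P.root i) := by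
    have := congrArg (fun z => B P x z) h
    simpa using this
  have key : P.coroot' j x * a = b * P.coroot' i x := by
    have h1 := two_B P x j
    have h2 := two_B P x i
    refine mul_left_cancel₀ (mul_ne_zero ha (B_root_pos P i).ne') ?_
    linear_combination -P.coroot' j x * hl - b * b * h1 + 2 * b * hc + a * b * h2
  rw [refl_smul, refl_smul]
  congr 1
  refine smul_right_cancel P hb ?_
  rw [smul_smul, mul_comm, ← smul_smul, h, smul_smul, key, smul_smul]

section Simple

variable {P} {Δ : Set ι} (hΔ : RootD.IsSimpleSys P Δ)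

include hΔ in
lemma isIndiv_simple {i : ι} (hi : i ∈ Δ) : RootD.IsIndiv P i := by
  intro j hj
  rw [two_smul] at hj
  have h := congrArg (fun c : ι →₀ ℤ => c i) (coeff_add hΔ hj.symm)
  simp only [coeff_simple hΔ hi, Finsupp.single_eq_same, Finsupp.add_apply] at h
  omega

lemma coeff_reflectionPerm {i : ι} (hi : i ∈ Δ) (k : ι) :
    coeff hΔ (P.reflectionPerm i k) = coeff hΔ k - P.pairing k i • Finsupp.single i 1 := by
  classical
  refine coeff_unique hΔ (fun a ha => ?_)
    (by rw [map_sub, map_smul, coeff_spec, Finsupp.linearCombination_single, one_smul,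
      root_reflectionPerm'])
  rcases Finset.mem_union.mp (Finsupp.support_sub ha) with h | h
  · exact coeff_support hΔ k h
  · have := Finsupp.support_single_subset (Finsupp.support_smul h)
    simp only [Finset.mem_singleton] at this
    exact this ▸ hi

/-- A simple reflection keeps a positive root positive unless it is proportional to the simple
root. -/
lemma refl_posOf {i k j : ι} (hi : i ∈ Δ) (hji : j ≠ i) (hj : 0 < coeff hΔ k j) :
    P.reflectionPerm i k ∈ RootD.posOf P Δ := by
  refine mem_posOf_of_coeff_pos hΔ (i := j) ?_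
  rw [coeff_reflectionPerm hΔ hi, Finsupp.sub_apply, Finsupp.smul_apply,
    Finsupp.single_eq_of_ne hji, smul_zero, sub_zero]
  exact hj

lemma root_eq_of_refl_neg {i k : ι} (hi : i ∈ Δ) (hk : k ∈ RootD.posOf P Δ)
    (h : P.reflectionPerm i k ∉ RootD.posOf P Δ) : P.root k = coeff hΔ k i • P.root i := by
  have hzero : ∀ j ≠ i, coeff hΔ k j = 0 := fun j hj => by
    by_contra hne
    exact h (refl_posOf hΔ hi hj (((mem_posOf_iff hΔ k).mp hk j).lt_of_ne (Ne.symm hne)))
  have : coeff hΔ k = Finsupp.single i (coeff hΔ k i) := Finsupp.ext fun j => by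
    by_cases hj : j = i
    · rw [hj, Finsupp.single_eq_same]
    · rw [hzero j hj, Finsupp.single_eq_of_ne hj]
  conv_lhs => rw [← coeff_spec hΔ k, this, Finsupp.linearCombination_single]

include hΔ in
lemma eq_of_refl_neg {i k : ι} (hi : i ∈ Δ) (hk : k ∈ RootD.posOf P Δ)
    (hind : RootD.IsIndiv P k) (h : P.reflectionPerm i k ∉ RootD.posOf P Δ) : k = i := by
  have hroot := root_eq_of_refl_neg hΔ hi hk h
  set c := coeff hΔ k i
  have hc : 0 ≤ c := (mem_posOf_iff hΔ k).mp hk i
  have hc0 : c ≠ 0 := fun h0 => P.ne_zero k (by rw [hroot, h0, zero_smul])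
  have hdvd : c ∣ 1 := dvd_of_smul_eq_smul P hind hc0 (by rw [one_smul]; exact hroot.symm)
  have := Int.le_of_dvd one_pos hdvd
  refine root_inj P ?_
  rw [hroot, show c = 1 by omega, one_smul]

include hΔ in
/-- The exchange lemma. -/
lemma exists_shorter {l : List ι} (hl : ∀ a ∈ l, a ∈ Δ) {i : ι} (hi : i ∈ Δ)
    (hneg : (l.map (refl P)).prod • i ∉ RootD.posOf P Δ) :
    ∃ l' : List ι, (∀ a ∈ l', a ∈ l) ∧ l'.length + 1 = l.length ∧
      (l'.map (refl P)).prod = (l.map (refl P)).prod * refl P i := by
  induction l with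
  | nil => exact absurd (by simpa using subset_posOf hi) hneg
  | cons a l ih =>
    simp only [List.mem_cons, forall_eq_or_imp] at hl
    rw [List.map_cons, List.prod_cons, mul_smul, refl_smul_index] at hneg
    by_cases hβ : (l.map (refl P)).prod • i ∈ RootD.posOf P Δ
    · have hβa := eq_of_refl_neg hΔ hl.1 hβ (isIndiv_smul P _ (isIndiv_simple hΔ hi)) hneg
      refine ⟨l, fun b hb => List.mem_cons_of_mem a hb, rfl, ?_⟩
      rw [List.map_cons, List.prod_cons, mul_assoc, ← refl_conj, hβa, ← mul_assoc, refl_mul_self,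
        one_mul]
    · obtain ⟨l', hsub, hlen, hprod⟩ := ih hl.2 hβ
      refine ⟨a :: l', ?_, by simp [← hlen], ?_⟩
      · simp only [List.mem_cons, forall_eq_or_imp, true_or, true_and]
        exact fun b hb => .inr (hsub b hb)
      · rw [List.map_cons, List.prod_cons, hprod, List.map_cons, List.prod_cons, mul_assoc]

include hΔ in
/-- A minimal word sends its last letter to a negative root. -/
lemma last_neg_of_minimal {l : List ι} (hl : ∀ a ∈ l, a ∈ Δ) (hne : l ≠ [])
    (hmin : ∀ l' : List ι, (∀ a ∈ l', a ∈ l) →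
      (l'.map (refl P)).prod = (l.map (refl P)).prod → l.length ≤ l'.length) :
    (l.map (refl P)).prod • l.getLast hne ∉ RootD.posOf P Δ := by
  intro hpos
  set i := l.getLast hne
  have hi : i ∈ Δ := hl i (List.getLast_mem hne)
  have hsplit : l.dropLast ++ [i] = l := List.dropLast_append_getLast hne
  have hprod : (l.map (refl P)).prod = (l.dropLast.map (refl P)).prod * refl P i := by
    conv_lhs => rw [← hsplit]
    simp
  rw [hprod, mul_smul, refl_smul_index, show P.reflectionPerm i i = opp P i from rfl, smul_opp] at hpos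
  have hneg : (l.dropLast.map (refl P)).prod • i ∉ RootD.posOf P Δ := fun h => not_posOf_opp hΔ h hpos
  obtain ⟨l', hsub, hlen, hp⟩ := exists_shorter hΔ
    (fun a ha => hl a (List.dropLast_subset l ha)) hi hneg
  have := hmin l' (fun a ha => List.dropLast_subset l (hsub a ha)) (by rw [hp, hprod])
  rw [List.length_dropLast] at hlen
  have := List.length_pos_iff.mpr hne
  omega

include hΔ in
lemma exists_neg_of_ne_one {T : Set ι} (hT : T ⊆ Δ) {g : P.Aut}
    (hg : g ∈ Subgroup.closure (refl P '' T)) (hne : g ≠ 1) :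
    ∃ i ∈ T, g • i ∉ RootD.posOf P Δ := by
  classical
  have hex : ∃ n, ∃ l : List ι, (∀ a ∈ l, a ∈ T) ∧ (l.map (refl P)).prod = g ∧ l.length = n :=
    (exists_word P hg).elim fun l h => ⟨_, l, h.1, h.2, rfl⟩
  obtain ⟨l, hlT, hprod, hlen⟩ := Nat.find_spec hex
  have hnil : l ≠ [] := by rintro rfl; exact hne hprod.symm
  refine ⟨l.getLast hnil, hlT _ (List.getLast_mem hnil), hprod ▸ ?_⟩
  refine last_neg_of_minimal hΔ (fun a ha => hT (hlT a ha)) hnil fun l' hsub hp => ?_
  rw [hlen]
  exact Nat.find_le ⟨l', fun a ha => hlT a (hsub a ha), hp.trans hprod, rfl⟩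

include hΔ in
/-- For an indivisible non-simple positive root, some simple reflection lowers it. -/
lemma exists_lowering {k : ι} (hk : k ∈ RootD.posOf P Δ) (hkΔ : k ∉ Δ) (hind : RootD.IsIndiv P k) :
    ∃ i ∈ Δ, 0 < P.pairing k i ∧ P.reflectionPerm i k ∈ RootD.posOf P Δ := by
  obtain ⟨l, hl, hsum⟩ := (mem_natSpan_iff_list P).mp hk
  obtain ⟨i, hi, hpos⟩ := exists_pairing_pos_of_sum P hsum
  refine ⟨i, hl i hi, pairing_pos_symm P hpos, ?_⟩
  by_contra h
  exact hkΔ (eq_of_refl_neg hΔ (hl i hi) hk hind h ▸ hl i hi)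

lemma height_reflectionPerm {i : ι} (hi : i ∈ Δ) (k : ι) :
    height hΔ (P.reflectionPerm i k) = height hΔ k - P.pairing k i := by
  have h := coeff_reflectionPerm hΔ hi k
  rw [height, h, Finsupp.sum_sub_index (fun _ _ _ => rfl), Finsupp.sum_smul_index' (fun _ => rfl)]
  simp [height]

include hΔ in
lemma indiv_pos_conj_simple {k : ι} (hk : k ∈ RootD.posOf P Δ) (hind : RootD.IsIndiv P k) :
    ∃ g ∈ Subgroup.closure (refl P '' Δ), ∃ i ∈ Δ, g • i = k := by
  induction hn : (height hΔ k).toNat using Nat.strong_induction_on generalizing k with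
  | _ n ih =>
    by_cases hkΔ : k ∈ Δ
    · exact ⟨1, one_mem _, k, hkΔ, one_smul _ _⟩
    obtain ⟨i, hi, hp, hpos⟩ := exists_lowering hΔ hk hkΔ hind
    have hlt : (height hΔ (P.reflectionPerm i k)).toNat < n := by
      rw [← hn, height_reflectionPerm hΔ hi]
      have := height_pos hΔ hk
      omega
    obtain ⟨g, hg, j, hj, hgj⟩ := ih _ hlt hpos (refl_smul_index P i k ▸ isIndiv_smul P _ hind) rfl
    refine ⟨refl P i * g, mul_mem (Subgroup.subset_closure ⟨i, hi, rfl⟩) hg, j, hj, ?_⟩
    rw [mul_smul, hgj, refl_smul_index, P.reflectionPerm_self]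

include hΔ in
lemma indiv_conj_simple {k : ι} (hind : RootD.IsIndiv P k) :
    ∃ g ∈ Subgroup.closure (refl P '' Δ), ∃ i ∈ Δ, g • i = k := by
  rcases mem_posOf_or hΔ k with h | h
  · exact indiv_pos_conj_simple hΔ h hind
  · have hind' : RootD.IsIndiv P (opp P k) := isIndiv_smul P (refl P k) hind
    obtain ⟨g, hg, i, hi, hgi⟩ := indiv_pos_conj_simple hΔ h hind'
    refine ⟨g * refl P i, mul_mem hg (Subgroup.subset_closure ⟨i, hi, rfl⟩), i, hi, ?_⟩
    rw [mul_smul, refl_smul_index, show P.reflectionPerm i i = opp P i from rfl, smul_opp, hgi,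
      opp_opp]

end Simple

lemma exists_indiv_half (i : ι) : RootD.IsIndiv P i ∨
    ∃ j, RootD.IsIndiv P j ∧ (2 : ℤ) • P.root j = P.root i := by
  by_cases h : RootD.IsIndiv P i
  · exact .inl h
  simp only [RootD.IsIndiv, not_forall, not_not] at h
  obtain ⟨j, hj⟩ := h
  refine .inr ⟨j, fun k hk => ?_, hj⟩
  have h4 : P.root i = (4 : ℤ) • P.root k := by rw [← hj, ← hk, smul_smul]; norm_num
  have h1 : P.pairing i i = 4 * P.pairing k i := by
    simpa using congrArg (P.coroot' i) h4
  rw [P.pairing_same] at h1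
  omega

lemma weylGroup_eq_closure {Δ : Set ι} (hΔ : RootD.IsSimpleSys P Δ) :
    Subgroup.closure (refl P '' Δ) = P.weylGroup := by
  refine le_antisymm (closure_refl_le_weylGroup P Δ) (Subgroup.closure_le _ |>.mpr ?_)
  rintro _ ⟨k, rfl⟩
  suffices hgen : ∀ j, RootD.IsIndiv P j → refl P j ∈ Subgroup.closure (refl P '' Δ) by
    rcases exists_indiv_half P k with h | ⟨j, hj, hjk⟩
    · exact hgen k h
    · have : refl P k = refl P j := refl_eq_of_smul_eq P one_ne_zero
        (show (1 : ℤ) • P.root k = (2 : ℤ) • P.root j by rw [one_smul, hjk])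
      show refl P k ∈ _
      rw [this]
      exact hgen j hj
  intro j hj
  obtain ⟨g, hg, i, hi, rfl⟩ := indiv_conj_simple hΔ hj
  rw [← conj_refl]
  exact mul_mem (mul_mem hg (Subgroup.subset_closure ⟨i, hi, rfl⟩)) (inv_mem hg)

lemma weyl_eq_one_of_pos {Δ : Set ι} (hΔ : RootD.IsSimpleSys P Δ) {g : P.Aut}
    (hg : g ∈ P.weylGroup) (h : ∀ i ∈ Δ, g • i ∈ RootD.posOf P Δ) : g = 1 := by
  by_contra hne
  obtain ⟨i, hi, hneg⟩ := exists_neg_of_ne_one hΔ subset_rfl (weylGroup_eq_closure P hΔ ▸ hg) hne
  exact hneg (h i hi)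

lemma isPosSys_image {S : Set ι} (hS : RootD.IsPosSys P S) (g : P.Aut) :
    RootD.IsPosSys P ((fun i : ι => g • i) '' S) where
  disjoint := by
    rintro _ ⟨i, hi, rfl⟩ ⟨j, hj, hji⟩
    change g • j = opp P (g • i) at hji
    rw [← smul_opp, smul_left_cancel_iff] at hji
    exact hS.disjoint hi (show opp P i ∈ S from hji ▸ hj)
  cover i := by
    rcases hS.cover (g⁻¹ • i) with h | h
    · exact .inl ⟨_, h, smul_inv_smul g i⟩
    · refine .inr ⟨_, h, ?_⟩
      change g • opp P (g⁻¹ • i) = _
      rw [smul_opp, smul_inv_smul]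
  sat k n hn hk := by
    refine ⟨g⁻¹ • k, hS.sat n hn ?_, smul_inv_smul g k⟩
    rw [root_smul, smul_comm]
    have := smul_mem_natSpan_image P g⁻¹ hk
    rwa [image_image, show (fun i : ι => g⁻¹ • g • i) '' S = S by simp] at this

lemma isSimpleSys_image {Δ : Set ι} (hΔ : RootD.IsSimpleSys P Δ) (g : P.Aut) :
    RootD.IsSimpleSys P ((fun i : ι => g • i) '' Δ) where
  linInd := by
    refine (linearIndepOn_iff_image P.root.injective.injOn).mpr ?_
    have h := hΔ.linInd.map' (RootPairing.Equiv.weightHom P g).toLinearMap (LinearEquiv.ker _)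
    have heq : P.root '' ((fun i : ι => g • i) '' Δ) = range (fun i : Δ => g • P.root i) := by
      rw [image_image, image_eq_range]
      simp only [root_smul]
    rw [heq]
    exact (linearIndepOn_id_range_iff (fun a b hab =>
      Subtype.ext (root_inj P (MulAction.injective g hab)))).mpr h
  mem_or_neg_mem i := by
    rcases hΔ.mem_or_neg_mem (g⁻¹ • i) with h | h
    · left
      have := smul_mem_natSpan_image P g h
      rwa [root_smul, smul_inv_smul] at this
    · right
      have := smul_mem_natSpan_image P g h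
      rwa [root_smul, smul_neg, smul_inv_smul] at this

lemma exists_weyl_subset {S : Set ι} (hS : RootD.IsPosSys P S) {P' : Set ι}
    (hP2 : ∀ i : ι, i ∈ P' ∨ opp P i ∈ P') (hcl : RootD.IsClosedSub P P') :
    ∃ g : P.Aut, g ∈ P.weylGroup ∧ (fun i : ι => g • i) '' S ⊆ P' := by
  induction hn : (S \ P').ncard using Nat.strong_induction_on generalizing S with
  | _ n ih =>
    have hΔ := isSimpleSys_simpleOf P hS
    have hSeq := posSys_eq_posOf hΔ hS (simpleOf_subset P S)
    by_cases hsub : simpleOf P S ⊆ P'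
    · refine ⟨1, one_mem _, ?_⟩
      simp only [one_smul, image_id']
      rw [hSeq]
      exact fun k hk => closed_natSpan P hcl (natSpan_mono P hsub hk)
    obtain ⟨i, hi, hiP⟩ := not_subset.mp hsub
    have hopp : opp P i ∈ P' := (hP2 i).resolve_left hiP
    have hlt : (((fun k : ι => refl P i • k) '' S) \ P').ncard < n := by
      refine hn ▸ ncard_lt_ncard ⟨?_, fun hss => ?_⟩ (toFinite _)
      · rintro _ ⟨⟨k, hk, rfl⟩, hkP⟩
        simp only [refl_smul_index] at hkP ⊢
        refine ⟨?_, hkP⟩
        rw [hSeq] at hk ⊢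
        by_contra hneg
        apply hkP
        have hk' := root_eq_of_refl_neg hΔ hi hk hneg
        refine closed_natSpan P hcl ?_
        have hc : 0 ≤ coeff hΔ k i := (mem_posOf_iff hΔ k).mp hk i
        have hp : P.pairing k i = coeff hΔ k i * 2 := by
          simpa using congrArg (P.coroot' i) hk'
        rw [root_reflectionPerm', hp, hk', ← sub_smul,
          show coeff hΔ k i - coeff hΔ k i * 2 = -((coeff hΔ k i).toNat : ℤ) by omega,
          neg_smul, natCast_zsmul, ← smul_neg, ← root_opp]
        exact (RootD.natSpan P P').nsmul_mem (root_mem_natSpan P hopp) _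
      · obtain ⟨⟨k, hk, hki⟩, -⟩ := hss ⟨hi.1, hiP⟩
        simp only [refl_smul_index] at hki
        have : k = opp P i := by
          rw [← P.reflectionPerm_self i k, hki]
        exact hS.disjoint hi.1 (show opp P i ∈ S from this ▸ hk)
    obtain ⟨g, hg, hgS⟩ := ih _ hlt (isPosSys_image P hS (refl P i)) rfl
    refine ⟨g * refl P i, mul_mem hg (P.reflection_mem_weylGroup i), ?_⟩
    simp only [mul_smul]
    rwa [← image_image (fun k : ι => g • k) (fun k : ι => refl P i • k)]

lemma posSys_eq_of_subset {S S' : Set ι} (hS : RootD.IsPosSys P S) (hS' : RootD.IsPosSys P S')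
    (h : S ⊆ S') : S = S' :=
  subset_antisymm h fun k hk => (hS.cover k).resolve_right fun hk' => hS'.disjoint hk (h hk')

lemma exists_weyl_posSys {S S' : Set ι} (hS : RootD.IsPosSys P S) (hS' : RootD.IsPosSys P S') :
    ∃ g : P.Aut, g ∈ P.weylGroup ∧ (fun i : ι => g • i) '' S = S' :=
  (exists_weyl_subset P hS hS'.cover (isClosed_of_isPosSys P hS')).elim fun g h =>
    ⟨g, h.1, posSys_eq_of_subset P (isPosSys_image P hS g) hS' h.2⟩

lemma exists_weyl_simpleSys {Δ Δ' : Set ι} (hΔ : RootD.IsSimpleSys P Δ)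
    (hΔ' : RootD.IsSimpleSys P Δ') :
    ∃ g : P.Aut, g ∈ P.weylGroup ∧ (fun i : ι => g • i) '' Δ = Δ' := by
  obtain ⟨g, hg, hgS⟩ := exists_weyl_posSys P (isPosSys_posOf hΔ) (isPosSys_posOf hΔ')
  refine ⟨g, hg, ?_⟩
  rw [eq_simpleOf (isSimpleSys_image P hΔ g) (isPosSys_posOf hΔ')
    (hgS ▸ image_mono subset_posOf)]
  exact (eq_simpleOf hΔ' (isPosSys_posOf hΔ') subset_posOf).symm

end Groth.Agent.RootDat
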